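/-
Twisted eigenvectors in rank four as polynomial data.
-/
import Cfsg.Agent.Lib.Chev.SylowTori.Lin
import Cfsg.Agent.Lib.Chev.Types
import Cfsg.Agent.Lib.Chev.Data.WeylF4
import Cfsg.Agent.Lib.Chev.WeylNF

set_option autoImplicit false

namespace CfsgLib.Chev.F4Prime

open Cfsg.Lie CfsgLib.Chev CfsgLib.Chev.SylowTori

/-! ### polynomials as coefficient lists -/

variable {R : Type*} [CommRing R]

/-- evaluation -/
def ev : List ℤ → R → R
  | [], _ => 0
  | c :: p, x => (c : R) + x * ev p x

/-- sum -/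
def padd : List ℤ → List ℤ → List ℤ
  | [], p => p
  | p, [] => p
  | a :: p, b :: r => (a + b) :: padd p r

/-- multiple -/
def psc (c : ℤ) (p : List ℤ) : List ℤ := p.map (c * ·)

/-- product -/
def pmul : List ℤ → List ℤ → List ℤ
  | [], _ => []
  | c :: p, r => padd (psc c r) (0 :: pmul p r)

/-- all coefficients vanish -/
def pzero (p : List ℤ) : Bool := p.all (· == 0)

theorem ev_padd : ∀ (p r : List ℤ) (x : R), ev (padd p r) x = ev p x + ev r x
  | [], r, x => by simp [padd, ev]
  | a :: p, [], x => by simp [padd, ev]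
  | a :: p, b :: r, x => by
    simp only [padd, ev, ev_padd p r]
    push_cast
    ring

theorem ev_psc (c : ℤ) : ∀ (p : List ℤ) (x : R), ev (psc c p) x = (c : R) * ev p x
  | [], x => by simp [psc, ev]
  | a :: p, x => by
    simp only [psc, List.map_cons, ev] at ev_psc ⊢
    rw [ev_psc c p x]
    push_cast
    ring

theorem ev_pmul : ∀ (p r : List ℤ) (x : R), ev (pmul p r) x = ev p x * ev r x
  | [], r, x => by simp [pmul, ev]
  | c :: p, r, x => by
    simp only [pmul, ev_padd, ev, ev_psc, ev_pmul p r]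
    push_cast
    ring

theorem ev_pzero : ∀ {p : List ℤ}, pzero p = true → ∀ x : R, ev p x = 0
  | [], _, x => rfl
  | a :: p, h, x => by
    simp only [pzero, List.all_cons, Bool.and_eq_true, beq_iff_eq] at h
    rw [ev, h.1, ev_pzero (p := p) h.2 x]
    simp

/-- the cyclotomic polynomials that occur -/
def cyc : ℕ → List ℤ
  | 1 => [-1, 1]
  | 2 => [1, 1]
  | 3 => [1, 1, 1]
  | 4 => [1, 0, 1]
  | 6 => [1, -1, 1]
  | 8 => [1, 0, 0, 0, 1]
  | 12 => [1, 0, -1, 0, 1]
  | _ => [1]

/-- a product of cyclotomic polynomials -/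
def cprod : List ℕ → List ℤ
  | [] => [1]
  | k :: S => pmul (cyc k) (cprod S)

theorem ev_cprod : ∀ (S : List ℕ) (x : R), ev (cprod S) x = (S.map fun k => ev (cyc k) x).prod
  | [], x => by simp [cprod, ev]
  | k :: S, x => by simp [cprod, ev_pmul, ev_cprod S]

/-! ### rows -/

/-- four integers -/
abbrev Z4 := ℤ × ℤ × ℤ × ℤ

/-- an integral matrix by its rows -/
abbrev M4 := Z4 × Z4 × Z4 × Z4

/-- the row of a root -/
noncomputable def row (r : ℕ) : Z4 := (auxF4.a r 0, auxF4.a r 1, auxF4.a r 2, auxF4.a r 3)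

/-- the matrix of a word -/
noncomputable def mat (w : List ℕ) : M4 :=
  (row (wf auxF4 w (chevF4.simple 0)), row (wf auxF4 w (chevF4.simple 1)),
    row (wf auxF4 w (chevF4.simple 2)), row (wf auxF4 w (chevF4.simple 3)))

/-- `b * M` -/
def step : M4 → Z4 → Z4
  | ((a, b, c, d), (e, f, g, h), (i, j, k, l), (m, n, o, p)), (x, y, z, t) =>
    (x * a + y * e + z * i + t * m, x * b + y * f + z * j + t * n,
      x * c + y * g + z * k + t * o, x * d + y * h + z * l + t * p)

/-- sum -/
def add4 : Z4 → Z4 → Z4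
  | (a, b, c, d), (x, y, z, t) => (a + x, b + y, c + z, d + t)

/-- multiple -/
def sc4 : ℤ → Z4 → Z4
  | k, (a, b, c, d) => (k * a, k * b, k * c, k * d)

/-- the pairing with a vector -/
def phi (v : Fin 4 → R) : Z4 → R
  | (a, b, c, d) => (a : R) * v 0 + (b : R) * v 1 + (c : R) * v 2 + (d : R) * v 3

theorem phi_add (v : Fin 4 → R) (b c : Z4) : phi v (add4 b c) = phi v b + phi v c := by
  obtain ⟨b0, b1, b2, b3⟩ := b
  obtain ⟨c0, c1, c2, c3⟩ := c
  simp only [add4, phi]
  push_cast
  ring

theorem phi_sc (v : Fin 4 → R) (k : ℤ) (b : Z4) : phi v (sc4 k b) = (k : R) * phi v b := by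
  obtain ⟨b0, b1, b2, b3⟩ := b
  simp only [sc4, phi]
  push_cast
  ring

/-- the unit rows -/
def units4 : List Z4 := [(1, 0, 0, 0), (0, 1, 0, 0), (0, 0, 1, 0), (0, 0, 0, 1)]

/-- the value of a polynomial in `M` on a row -/
def app (M : M4) : List ℤ → Z4 → Z4
  | [], _ => (0, 0, 0, 0)
  | c :: p, b => add4 (sc4 c b) (step M (app M p b))

theorem phi_app {v : Fin 4 → R} {M : M4} {q : R} (hM : ∀ b, phi v (step M b) = q * phi v b) (b : Z4) :
    ∀ p, phi v (app M p b) = ev p q * phi v b
  | [] => by simp [app, phi, ev]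
  | c :: p => by
    rw [app, phi_add, phi_sc, hM, phi_app hM b p, ev]
    ring

/-- a three by three determinant -/
def det3 (a b c d e f g h i : ℤ) : ℤ := a * (e * i - f * h) - b * (d * i - f * g) + c * (d * h - e * g)

/-- a four by four determinant -/
def det4 : M4 → ℤ
  | ((a, b, c, d), (e, f, g, h), (i, j, k, l), (m, n, o, p)) =>
    a * det3 f g h j k l n o p - e * det3 b c d j k l n o p + i * det3 b c d f g h n o p -
      m * det3 b c d f g h j k l

theorem det4_kills (v : Fin 4 → R) (B : M4) (h0 : phi v B.1 = 0) (h1 : phi v B.2.1 = 0)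
    (h2 : phi v B.2.2.1 = 0) (h3 : phi v B.2.2.2 = 0) (i : Fin 4) : (det4 B : R) * v i = 0 := by
  obtain ⟨⟨a, b, c, d⟩, ⟨e, f, g, h⟩, ⟨i', j, k, l⟩, ⟨m, n, o, p⟩⟩ := B
  simp only [phi] at h0 h1 h2 h3
  fin_cases i
  · simp only [det4, det3]
    push_cast
    linear_combination (norm := (simp only [det3]; push_cast; ring1)) ((det3 f g h j k l n o p : ℤ) : R) * h0 - ((det3 b c d j k l n o p : ℤ) : R) * h1 +
      ((det3 b c d f g h n o p : ℤ) : R) * h2 - ((det3 b c d f g h j k l : ℤ) : R) * h3
  · simp only [det4, det3]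
    push_cast
    linear_combination (norm := (simp only [det3]; push_cast; ring1)) -((det3 e g h i' k l m o p : ℤ) : R) * h0 + ((det3 a c d i' k l m o p : ℤ) : R) * h1 -
      ((det3 a c d e g h m o p : ℤ) : R) * h2 + ((det3 a c d e g h i' k l : ℤ) : R) * h3
  · simp only [det4, det3]
    push_cast
    linear_combination (norm := (simp only [det3]; push_cast; ring1)) ((det3 e f h i' j l m n p : ℤ) : R) * h0 - ((det3 a b d i' j l m n p : ℤ) : R) * h1 +
      ((det3 a b d e f h m n p : ℤ) : R) * h2 - ((det3 a b d e f h i' j l : ℤ) : R) * h3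
  · simp only [det4, det3]
    push_cast
    linear_combination (norm := (simp only [det3]; push_cast; ring1)) -((det3 e f g i' j k m n o : ℤ) : R) * h0 + ((det3 a b c i' j k m n o : ℤ) : R) * h1 -
      ((det3 a b c e f g m n o : ℤ) : R) * h2 + ((det3 a b c e f g i' j k : ℤ) : R) * h3

/-! ### the checks on a word -/

/-- an eigenvector with polynomial entries -/
structure Wit where
  k : ℕ
  vec : List (List ℤ)
  quo : List (List ℤ)
  idx : ℕ
  cst : ℤ

/-- the pairing of a row with polynomial entries -/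
def plin (V : List (List ℤ)) : Z4 → List ℤ
  | (a, b, c, d) => padd (padd (psc a (V.getD 0 [])) (psc b (V.getD 1 [])))
      (padd (psc c (V.getD 2 [])) (psc d (V.getD 3 [])))

/-- `M v - q v = Φ_k(q) u` on one row -/
def eqRow (W : Wit) (b : Z4) (i : ℕ) : Bool :=
  pzero (padd (plin W.vec b)
    (psc (-1) (padd (0 :: W.vec.getD i []) (pmul (cyc W.k) (W.quo.getD i [])))))

/-- the checks on a witness -/
noncomputable def Wit.ok (W : Wit) (w : List ℕ) : Bool :=
  eqRow W (mat w).1 0 && eqRow W (mat w).2.1 1 && eqRow W (mat w).2.2.1 2 &&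
    eqRow W (mat w).2.2.2 3 && decide (W.idx < 4 ∧ W.vec.getD W.idx [] = [W.cst] ∧
      (W.cst ∈ ([1, 2] : List ℤ) ∨ W.cst = 3 ∧ W.k = 3))

/-- a polynomial annihilates the word -/
noncomputable def annOK (w : List ℕ) (p : List ℤ) : Bool :=
  let M := mat w
  units4.all fun b => app M p b == (0, 0, 0, 0)

/-- every orbit spans up to a power of two -/
noncomputable def spanOK (w : List ℕ) : Bool :=
  let M := mat w
  (List.range chevF4.nroots).all fun r =>
    let b := row r
    let b1 := step M b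
    let b2 := step M b1
    let b3 := step M b2
    decide (det4 (b, b1, b2, b3) ∈ ([1, 2, 4, 8, -1, -2, -4, -8] : List ℤ))

/-- the identity matrix -/
def one4 : M4 := ((1, 0, 0, 0), (0, 1, 0, 0), (0, 0, 1, 0), (0, 0, 0, 1))

/-- `M * N` -/
def mul4 : M4 → M4 → M4
  | (a, b, c, d), N => (step N a, step N b, step N c, step N d)

/-- an involution inverts a root and an element of order three rotates one -/
noncomputable def smallOK (w : List ℕ) : Bool :=
  let M := mat w
  M == one4 ||
    ((mul4 M M != one4 || (List.range chevF4.nroots).any fun r =>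
        add4 (row r) (step M (row r)) == (0, 0, 0, 0)) &&
      (mul4 M (mul4 M M) != one4 || (List.range chevF4.nroots).any fun r =>
        add4 (add4 (row r) (step M (row r))) (step M (step M (row r))) == (0, 0, 0, 0)))

end CfsgLib.Chev.F4Prime
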