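/-
The order of `q` modulo a prime dividing the order of `F₄(q)`.
-/
import Cfsg.Agent.Lib.Chev.F4Prime.Poly
import Cfsg.Agent.Lib.Chev.OrderTypes
import Mathlib.GroupTheory.OrderOfElement
import Mathlib.Algebra.Field.ZMod
import Mathlib.NumberTheory.Divisors

set_option autoImplicit false

namespace CfsgLib.Chev.F4Prime

open Cfsg.Lie CfsgLib.Chev

variable {K : Type*} [Field K]

theorem order_cases {x : K} {k : ℕ} (h : x ^ k = 1) (hk : k ≠ 0) : orderOf x ∈ k.divisors :=
  Nat.mem_divisors.2 ⟨orderOf_dvd_of_pow_eq_one h, hk⟩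

/-- a root of a cyclotomic polynomial has that order when the characteristic is at least five -/
theorem order_of_root (h2 : (2 : K) ≠ 0) (h3 : (3 : K) ≠ 0) {x : K} {k : ℕ}
    (hk : k ∈ [1, 2, 3, 4, 6, 8, 12]) (h : ev (cyc k) x = 0) : orderOf x = k := by
  fin_cases hk <;> simp only [cyc, ev] at h <;> push_cast at h
  · exact orderOf_eq_one_iff.2 (by linear_combination h)
  · have e : x = -1 := by linear_combination h
    have e2 : x ^ 2 = 1 := by rw [e]; ring
    rcases (Nat.dvd_prime Nat.prime_two).1 (orderOf_dvd_of_pow_eq_one e2) with o | o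
    · exact absurd (orderOf_eq_one_iff.1 o) fun e1 => h2 (by linear_combination e - e1)
    · exact o
  · have e3 : x ^ 3 = 1 := by linear_combination (x - 1) * h
    rcases (Nat.dvd_prime Nat.prime_three).1 (orderOf_dvd_of_pow_eq_one e3) with o | o
    · exact absurd (orderOf_eq_one_iff.1 o) fun e1 => h3 (by subst e1; linear_combination h)
    · exact o
  · have e2 : x ^ 2 = -1 := by linear_combination h
    have e4 : x ^ 4 = 1 := by linear_combination (x ^ 2 - 1) * e2
    have hn : x ^ 2 ≠ 1 := fun e => h2 (by linear_combination e2 - e)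
    have := order_cases e4 (by norm_num)
    simp only [show (4 : ℕ).divisors = {1, 2, 4} from by decide, Finset.mem_insert, Finset.mem_singleton] at this
    have hpow := pow_orderOf_eq_one x
    rcases this with o | o | o <;> rw [o] at hpow
    · exact absurd (by linear_combination (x + 1) * hpow) hn
    · exact absurd hpow hn
    · exact o
  · have e3 : x ^ 3 = -1 := by linear_combination (x + 1) * h
    have e6 : x ^ 6 = 1 := by linear_combination (x ^ 3 - 1) * e3
    have hn : x ^ 3 ≠ 1 := fun e => h2 (by linear_combination e3 - e)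
    have hn2 : x ^ 2 ≠ 1 := fun e => by
      have e1 : x = -1 := by linear_combination e3 - x * e
      subst e1
      exact h3 (by linear_combination h)
    have := order_cases e6 (by norm_num)
    simp only [show (6 : ℕ).divisors = {1, 2, 3, 6} from by decide, Finset.mem_insert, Finset.mem_singleton] at this
    have hpow := pow_orderOf_eq_one x
    rcases this with o | o | o | o <;> rw [o] at hpow
    · exact absurd (by linear_combination (x + 1) * hpow) hn2
    · exact absurd hpow hn2
    · exact absurd hpow hn
    · exact o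
  · have e4 : x ^ 4 = -1 := by linear_combination h
    have e8 : x ^ 8 = 1 := by linear_combination (x ^ 4 - 1) * e4
    have hn : x ^ 4 ≠ 1 := fun e => h2 (by linear_combination e4 - e)
    have := order_cases e8 (by norm_num)
    simp only [show (8 : ℕ).divisors = {1, 2, 4, 8} from by decide, Finset.mem_insert, Finset.mem_singleton] at this
    have hpow := pow_orderOf_eq_one x
    rcases this with o | o | o | o <;> rw [o] at hpow
    · exact absurd (by rw [pow_one] at hpow; rw [hpow]; ring) hn
    · exact absurd (by linear_combination (x ^ 2 + 1) * hpow) hn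
    · exact absurd hpow hn
    · exact o
  · have e6 : x ^ 6 = -1 := by linear_combination (x ^ 2 + 1) * h
    have e12 : x ^ 12 = 1 := by linear_combination (x ^ 6 - 1) * e6
    have hn : x ^ 6 ≠ 1 := fun e => h2 (by linear_combination e6 - e)
    have hn4 : x ^ 4 ≠ 1 := fun e => by
      have e2 : x ^ 2 = -1 := by linear_combination e6 - x ^ 2 * e
      exact h3 (by linear_combination h - (x ^ 2 - 2) * e2)
    have := order_cases e12 (by norm_num)
    simp only [show (12 : ℕ).divisors = {1, 2, 3, 4, 6, 12} from by decide, Finset.mem_insert,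
      Finset.mem_singleton] at this
    have hpow := pow_orderOf_eq_one x
    rcases this with o | o | o | o | o | o <;> rw [o] at hpow
    · exact absurd (by rw [pow_one] at hpow; rw [hpow]; ring) hn
    · exact absurd (by linear_combination (x ^ 4 + x ^ 2 + 1) * hpow) hn
    · exact absurd (by linear_combination (x ^ 3 + 1) * hpow) hn
    · exact absurd hpow hn4
    · exact absurd hpow hn
    · exact o

/-- an element of that order is a root of the cyclotomic polynomial -/
theorem root_of_order {x : K} {k : ℕ} (hk : k ∈ [1, 2, 3, 4, 6, 8, 12]) (h : orderOf x = k) :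
    ev (cyc k) x = 0 := by
  have hp := pow_orderOf_eq_one x
  have hlt : ∀ j, 0 < j → j < k → x ^ j ≠ 1 := fun j h1 h2 =>
    pow_ne_one_of_lt_orderOf h1.ne' (h ▸ h2)
  rw [h] at hp
  fin_cases hk <;> simp only [cyc, ev] <;> push_cast
  · linear_combination hp
  · exact (mul_eq_zero.1 (show (x - 1) * (1 + x * (1 + x * 0)) = 0 by linear_combination hp)).resolve_left
      (sub_ne_zero.2 (by simpa using hlt 1 (by norm_num) (by norm_num)))
  · exact (mul_eq_zero.1 (show (x - 1) * (1 + x * (1 + x * (1 + x * 0))) = 0 by
      linear_combination hp)).resolve_left (sub_ne_zero.2 (by simpa using hlt 1 (by norm_num) (by norm_num)))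
  · exact (mul_eq_zero.1 (show (x ^ 2 - 1) * (1 + x * (0 + x * (1 + x * 0))) = 0 by
      linear_combination hp)).resolve_left (sub_ne_zero.2 (hlt 2 (by norm_num) (by norm_num)))
  · have h1 := (mul_eq_zero.1 (show (x ^ 3 - 1) * ((x + 1) * (1 + x * (-1 + x * (1 + x * 0)))) = 0 by
      linear_combination hp)).resolve_left (sub_ne_zero.2 (hlt 3 (by norm_num) (by norm_num)))
    refine (mul_eq_zero.1 h1).resolve_left fun e => hlt 2 (by norm_num) (by norm_num) ?_
    linear_combination (x - 1) * e
  · exact (mul_eq_zero.1 (show (x ^ 4 - 1) * (1 + x * (0 + x * (0 + x * (0 + x * (1 + x * 0))))) = 0 by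
      linear_combination hp)).resolve_left (sub_ne_zero.2 (hlt 4 (by norm_num) (by norm_num)))
  · have h1 := (mul_eq_zero.1 (show (x ^ 6 - 1) *
        ((x ^ 2 + 1) * (1 + x * (0 + x * (-1 + x * (0 + x * (1 + x * 0)))))) = 0 by
      linear_combination hp)).resolve_left (sub_ne_zero.2 (hlt 6 (by norm_num) (by norm_num)))
    refine (mul_eq_zero.1 h1).resolve_left fun e => hlt 4 (by norm_num) (by norm_num) ?_
    linear_combination (x ^ 2 - 1) * e

theorem not_root_mod_three : ∀ x : ZMod 3, ev (cyc 8) x ≠ 0 ∧ ev (cyc 12) x ≠ 0 := by decide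

/-- the possible orders of `q` modulo an odd prime divisor of the group order -/
theorem order_mem {F : Type*} [Field F] [Fintype F] {q : ℕ} (hq : Fintype.card F = q) {s : ℕ}
    [Fact s.Prime] (hsq : ¬ s ∣ q) (hs : s ∣ Nat.card ↥(chevF4.group F)) :
    orderOf (q : ZMod s) ∈ [1, 2, 3, 4, 6, 8, 12] := by
  have hsp := (Fact.out : s.Prime)
  have e := order_formula stdF4 weylOKF4 smithF4 poinF4 hq
  have hdvd := dvd_mul_of_dvd_right hs (∏ i, Nat.gcd ((![1, 1, 1, 1] : Fin 4 → ℕ) i) (q - 1))
  rw [show (∏ i, Nat.gcd ((![1, 1, 1, 1] : Fin 4 → ℕ) i) (q - 1)) * Nat.card ↥(chevF4.group F) = _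
    from e] at hdvd
  rcases hsp.dvd_mul.1 hdvd with h | h
  · exact absurd (hsp.dvd_of_dvd_pow h) hsq
  obtain ⟨y, hy, hsy⟩ := (Prime.dvd_prod_iff hsp.prime).1 h
  obtain ⟨d, hd, rfl⟩ := List.mem_map.1 hy
  have hq1 : 0 < q := hq ▸ Fintype.card_pos
  have h1 : (q : ZMod s) ^ d = 1 := by
    have := (ZMod.natCast_eq_zero_iff _ s).2 hsy
    rwa [Nat.cast_sub (Nat.one_le_pow _ _ hq1), Nat.cast_one, sub_eq_zero, Nat.cast_pow] at this
  have hmem := order_cases h1 (by fin_cases hd <;> norm_num)
  fin_cases hd
  · revert hmem; generalize orderOf (q : ZMod s) = o; revert o; decide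
  · revert hmem; generalize orderOf (q : ZMod s) = o; revert o; decide
  · revert hmem; generalize orderOf (q : ZMod s) = o; revert o; decide
  · revert hmem; generalize orderOf (q : ZMod s) = o; revert o; decide

end CfsgLib.Chev.F4Prime
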