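/-
Tables for the prime graph of `F₄(q)`: annihilating products of cyclotomic polynomials for the
elements of the Weyl group, and eigenvectors with polynomial entries.
-/
import Cfsg.Agent.Lib.Chev.F4Prime.Poly

set_option autoImplicit false
set_option maxRecDepth 100000

namespace CfsgLib.Chev.F4Prime

/-- the products of cyclotomic polynomials that annihilate an element of the Weyl group -/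
def annList : List (List ℕ) :=
  [[1], [1, 2], [1, 2, 3], [1, 2, 4], [1, 2, 6], [1, 3], [1, 4], [2], [2, 4], [2, 6], [3], [4], [6], [8], [12]]

/-- the index in `annList`, along the normal forms -/
def tags : List ℕ :=
  [0, 1, 1, 5, 5, 1, 1, 1, 6, 4, 4, 6, 6, 4, 1, 6, 1, 4, 4, 6, 6, 1, 4, 1, 1, 5, 1, 3, 3, 5, 5, 1,
    3, 1, 5, 3, 3, 5, 5, 3, 1, 1, 1, 4, 4, 1, 1, 1, 1, 1, 1, 2, 2, 1, 5, 2, 4, 14, 14, 4, 4, 14, 5, 4,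
    2, 14, 14, 4, 4, 5, 14, 2, 6, 4, 3, 13, 13, 4, 4, 6, 13, 3, 4, 13, 13, 4, 4, 13, 6, 3, 4, 12, 12, 4, 4, 9,
    5, 2, 4, 14, 14, 4, 1, 1, 6, 4, 4, 6, 1, 2, 3, 13, 13, 4, 2, 1, 13, 3, 4, 13, 4, 14, 5, 4, 4, 12, 14, 4,
    4, 5, 12, 4, 2, 14, 14, 2, 4, 9, 13, 4, 4, 13, 6, 3, 4, 14, 5, 4, 2, 14, 6, 4, 1, 6, 1, 4, 3, 13, 1, 4,
    2, 13, 13, 4, 2, 13, 1, 3, 5, 4, 4, 12, 14, 4, 4, 12, 14, 4, 4, 5, 14, 4, 2, 9, 14, 2, 4, 6, 13, 3, 4, 13,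
    14, 4, 4, 5, 14, 2, 4, 6, 6, 1, 4, 1, 13, 3, 4, 1, 13, 2, 4, 13, 13, 2, 3, 1, 4, 5, 12, 4, 4, 14, 12, 4,
    4, 14, 5, 4, 4, 14, 9, 2, 2, 14, 6, 4, 3, 13, 13, 4, 6, 4, 3, 13, 13, 4, 4, 14, 5, 4, 4, 12, 5, 4, 4, 12,
    14, 4, 2, 14, 14, 4, 2, 9, 1, 6, 1, 4, 4, 6, 1, 4, 2, 13, 13, 3, 2, 13, 1, 3, 4, 13, 14, 4, 4, 5, 14, 2,
    4, 6, 13, 3, 4, 13, 14, 4, 4, 5, 12, 4, 4, 5, 12, 4, 4, 14, 14, 2, 4, 14, 9, 2, 6, 1, 4, 1, 6, 4, 4, 1,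
    13, 2, 3, 13, 13, 2, 3, 1, 13, 4, 4, 14, 5, 4, 2, 14, 1, 5, 1, 3, 3, 5, 1, 2, 3, 13, 13, 4, 3, 13, 1, 4,
    2, 13, 13, 4, 4, 6, 13, 3, 1, 3, 1, 9, 9, 3, 3, 5, 9, 3, 3, 11, 9, 3, 3, 11, 5, 3, 2, 13, 13, 3, 2, 8,
    13, 4, 4, 13, 6, 3, 4, 12, 14, 4, 4, 5, 12, 4, 4, 14, 5, 4, 4, 9, 14, 2, 2, 14, 4, 6, 6, 4, 1, 1, 13, 3,
    4, 13, 1, 2, 3, 13, 13, 4, 2, 1, 5, 2, 4, 14, 14, 4, 5, 1, 3, 1, 5, 3, 2, 1, 13, 3, 4, 13, 13, 3, 4, 1,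
    13, 2, 4, 13, 6, 4, 3, 13, 3, 1, 9, 1, 3, 9, 5, 3, 3, 9, 11, 3, 3, 9, 11, 3, 3, 5, 13, 2, 3, 13, 8, 2,
    4, 12, 12, 4, 4, 9, 13, 4, 4, 6, 13, 3, 4, 13, 6, 4, 3, 13, 6, 3, 4, 13, 13, 4, 14, 4, 4, 14, 5, 2, 4, 5,
    14, 2, 4, 14, 5, 4, 2, 14, 14, 4, 1, 1, 1, 2, 2, 1, 3, 5, 5, 3, 1, 1, 13, 4, 2, 13, 1, 3, 4, 13, 13, 2,
    3, 1, 6, 3, 4, 13, 13, 4, 9, 3, 3, 9, 1, 1, 3, 11, 5, 3, 3, 9, 11, 3, 3, 5, 9, 3, 3, 8, 13, 2, 2, 13,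
    1, 4, 4, 1, 1, 1, 2, 14, 14, 4, 2, 9, 14, 2, 4, 14, 9, 2, 4, 9, 14, 2, 2, 14, 2, 13, 13, 2, 3, 8, 13, 3,
    2, 8, 13, 2, 3, 13, 8, 2, 2, 13, 5, 2, 2, 10, 10, 2, 13, 4, 4, 13, 6, 3, 3, 5, 9, 3, 3, 11, 5, 3, 3, 9,
    11, 3, 1, 1, 5, 3, 3, 5, 2, 13, 13, 2, 3, 8, 1, 3, 4, 13, 13, 2, 3, 1, 13, 4, 2, 13, 1, 1, 3, 9, 9, 3,
    2, 14, 14, 2, 4, 9, 1, 4, 2, 13, 13, 3, 4, 1, 13, 2, 3, 13, 1, 1, 2, 8, 8, 2, 14, 4, 4, 14, 5, 2, 2, 9,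
    14, 2, 2, 10, 9, 2, 2, 14, 10, 2, 3, 8, 13, 2, 2, 13, 4, 6, 13, 3, 4, 13, 9, 3, 3, 11, 5, 3, 3, 11, 5, 3,
    3, 9, 5, 3, 1, 5, 1, 3, 13, 3, 2, 8, 13, 2, 4, 13, 1, 2, 3, 13, 13, 2, 3, 13, 1, 4, 3, 9, 1, 3, 1, 9,
    14, 4, 2, 9, 14, 2, 2, 13, 1, 3, 4, 13, 13, 3, 4, 13, 1, 2, 2, 8, 1, 2, 1, 8, 4, 5, 14, 2, 4, 14, 14, 2,
    2, 10, 9, 2, 2, 10, 9, 2, 2, 14, 13, 2, 3, 13, 8, 2, 6, 4, 3, 13, 13, 4, 3, 9, 11, 3, 3, 5, 11, 3, 3, 5,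
    9, 3, 3, 5, 5, 1, 3, 1, 3, 13, 8, 2, 2, 13, 13, 4, 2, 1, 13, 3, 2, 13, 13, 3, 4, 1, 9, 3, 3, 1, 9, 1,
    4, 14, 9, 2, 2, 14, 13, 2, 3, 1, 13, 4, 3, 13, 13, 4, 2, 1, 8, 2, 2, 1, 8, 1, 5, 4, 2, 14, 14, 4, 2, 14,
    10, 2, 2, 9, 10, 2, 2, 9, 14, 2, 2, 13, 13, 3, 2, 8, 2, 13, 13, 3, 2, 8, 14, 4, 4, 5, 14, 2, 2, 9, 14, 2,
    2, 10, 14, 2, 2, 10, 9, 2, 1, 3, 4, 13, 13, 2, 4, 13, 1, 2, 3, 13, 1, 2, 1, 8, 8, 2, 4, 14, 9, 2, 2, 14,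
    13, 2, 3, 13, 8, 2, 4, 14, 5, 4, 2, 14, 9, 2, 2, 14, 10, 2, 2, 14, 10, 2, 2, 9, 3, 1, 13, 4, 2, 13, 13, 4,
    2, 1, 13, 3, 2, 1, 8, 1, 2, 8, 14, 4, 2, 9, 14, 2, 3, 8, 13, 2, 2, 13, 5, 2, 4, 14, 14, 4, 2, 10, 9, 2,
    2, 14, 10, 2, 2, 9, 14, 2, 13, 2, 3, 13, 1, 4, 2, 13, 13, 3, 4, 1, 8, 2, 2, 8, 1, 1, 2, 14, 14, 2, 4, 9,
    5, 2, 2, 10, 10, 2, 3, 8, 13, 2, 2, 13, 13, 2, 3, 13, 8, 2, 2, 13, 13, 3, 2, 8, 4, 14, 9, 2, 2, 14, 14, 4,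
    2, 9, 14, 2, 2, 14, 14, 2, 4, 9, 1, 4, 4, 1, 1, 1, 1, 1, 1, 2, 2, 1, 1, 1, 3, 9, 9, 3, 3, 9, 1, 3,
    1, 9, 9, 3, 3, 1, 9, 1, 1, 2, 1, 8, 8, 2, 2, 1, 8, 1, 2, 8, 8, 2, 2, 8, 1, 1, 1, 9, 9, 1, 1, 7]

/-- pairs of eigenvectors for a common element -/
def pairData : List (List ℕ × Wit × Wit) :=
  [([], ⟨1, [[1], [], [], []], [[-1], [], [], []], 0, 1⟩, ⟨1, [[1], [], [], []], [[-1], [], [], []], 0, 1⟩),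
   ([0], ⟨1, [[], [1], [], []], [[], [-1], [], []], 1, 1⟩, ⟨2, [[2], [-1], [], []], [[-2], [1], [], []], 0, 2⟩),
   ([1, 0], ⟨1, [[], [], [1], []], [[], [], [-1], []], 2, 1⟩, ⟨3, [[3], [-3, -3], [2, 4], []], [[], [3], [-4], []], 0, 3⟩),
   ([2, 1], ⟨1, [[1], [], [], []], [[-1], [], [], []], 0, 1⟩, ⟨4, [[1], [-1, -1], [0, 2], [1, -1]], [[], [1], [-2], [1]], 0, 1⟩),
   ([2, 1, 0], ⟨1, [[], [], [], [1]], [[], [], [], [-1]], 3, 1⟩, ⟨6, [[1], [1, -1], [-2], [0, 2]], [[], [1], [], [-2]], 0, 1⟩),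
   ([0], ⟨2, [[2], [-1], [], []], [[-2], [1], [], []], 0, 2⟩, ⟨2, [[2], [-1], [], []], [[-2], [1], [], []], 0, 2⟩),
   ([3, 1, 0], ⟨2, [[], [], [1], [-2]], [[], [], [-1], [2]], 2, 1⟩, ⟨3, [[3], [-3, -3], [2, 4], []], [[], [3], [-4], []], 0, 3⟩),
   ([2, 1, 2, 1, 0], ⟨2, [[], [1], [-2], [1]], [[], [-1], [2], [-1]], 1, 1⟩, ⟨4, [[2], [-1, -1], [], [0, 2]], [[], [1], [], [-2]], 0, 2⟩),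
   ([2, 1, 0], ⟨2, [[2], [-2], [2], [-1]], [[-2], [2], [-2], [1]], 0, 2⟩, ⟨6, [[1], [1, -1], [-2], [0, 2]], [[], [1], [], [-2]], 0, 1⟩),
   ([1, 0], ⟨3, [[3], [-3, -3], [2, 4], []], [[], [3], [-4], []], 0, 3⟩, ⟨3, [[3], [-3, -3], [2, 4], []], [[], [3], [-4], []], 0, 3⟩),
   ([2, 1], ⟨4, [[1], [-1, -1], [0, 2], [1, -1]], [[], [1], [-2], [1]], 0, 1⟩, ⟨4, [[1], [-1, -1], [0, 2], [1, -1]], [[], [1], [-2], [1]], 0, 1⟩),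
   ([2, 1, 0], ⟨6, [[1], [1, -1], [-2], [0, 2]], [[], [1], [], [-2]], 0, 1⟩, ⟨6, [[1], [1, -1], [-2], [0, 2]], [[], [1], [], [-2]], 0, 1⟩),
   ([3, 2, 1, 2, 1, 0], ⟨8, [[2], [-1, -1, 1, -1], [0, 2, -2], [0, -2, 0, 2]], [[], [1], [], [-2]], 0, 2⟩, ⟨8, [[2], [-1, -1, 1, -1], [0, 2, -2], [0, -2, 0, 2]], [[], [1], [], [-2]], 0, 2⟩),
   ([3, 2, 1, 0], ⟨12, [[1], [0, 1, 0, -1], [0, -1, -1, 1], [-1, -1, 1]], [[], [1], [-1], []], 0, 1⟩, ⟨12, [[1], [0, 1, 0, -1], [0, -1, -1, 1], [-1, -1, 1]], [[], [1], [-1], []], 0, 1⟩)]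

/-- an eigenvector with a fixed root that kills it -/
def twoData : List (List ℕ × Wit × ℕ × List ℤ) :=
  [([], ⟨1, [[1], [], [], []], [[-1], [], [], []], 0, 1⟩, 24, []),
   ([0], ⟨2, [[2], [-1], [], []], [[-2], [1], [], []], 0, 2⟩, 24, []),
   ([1, 0], ⟨3, [[3], [-3, -3], [2, 4], []], [[], [3], [-4], []], 0, 3⟩, 24, []),
   ([2, 1], ⟨4, [[1], [-1, -1], [0, 2], [1, -1]], [[], [1], [-2], [1]], 0, 1⟩, 29, []),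
   ([2, 1, 0], ⟨6, [[1], [1, -1], [-2], [0, 2]], [[], [1], [], [-2]], 0, 1⟩, 47, [])]

end CfsgLib.Chev.F4Prime
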