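/-
Kernel checks of the tables for the prime graph of `F₄(q)`.
-/
import Cfsg.Agent.Lib.Chev.F4Prime.Data

set_option autoImplicit false
set_option maxRecDepth 100000

namespace CfsgLib.Chev.F4Prime

open Cfsg.Lie CfsgLib.Chev

theorem tags_len : tags.length = (NF weylF4 chevF4.rank).length := by decide +kernel

theorem ann_chk : ((NF weylF4 chevF4.rank).zip tags).all (fun p =>
    decide (p.2 < annList.length) && annOK p.1 (cprod (annList.getD p.2 []))) = true := by
  decide +kernel

/-- the test of one normal form -/
noncomputable def spanTest : List ℕ × ℕ → Bool :=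
  fun p =>
    !((annList.getD p.2 []).any fun k => k == 8 || k == 12) || spanOK p.1

theorem span_part0 : (((NF weylF4 chevF4.rank).zip tags).take 300).all spanTest = true := by decide +kernel

theorem span_part1 : ((((NF weylF4 chevF4.rank).zip tags).drop 300).take 300).all spanTest = true := by decide +kernel

theorem span_part2 : (((((NF weylF4 chevF4.rank).zip tags).drop 300).drop 300).take 300).all spanTest = true := by decide +kernel

theorem span_part3 : (((((NF weylF4 chevF4.rank).zip tags).drop 300).drop 300).drop 300).all spanTest = true := by decide +kernel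

theorem span_chk : ((NF weylF4 chevF4.rank).zip tags).all (fun p =>
    !((annList.getD p.2 []).any fun k => k == 8 || k == 12) || spanOK p.1) = true := by
  refine List.all_eq_true.2 fun p hp => ?_
  show spanTest p = true
  rw [← List.take_append_drop 300 ((NF weylF4 chevF4.rank).zip tags), List.mem_append] at hp
  rcases hp with hp | hp
  · exact List.all_eq_true.1 span_part0 p hp
  rw [← List.take_append_drop 300 (((NF weylF4 chevF4.rank).zip tags).drop 300), List.mem_append] at hp
  rcases hp with hp | hp
  · exact List.all_eq_true.1 span_part1 p hp
  rw [← List.take_append_drop 300 ((((NF weylF4 chevF4.rank).zip tags).drop 300).drop 300), List.mem_append] at hp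
  rcases hp with hp | hp
  · exact List.all_eq_true.1 span_part2 p hp
  exact List.all_eq_true.1 span_part3 p hp

theorem small_chk : (NF weylF4 chevF4.rank).all smallOK = true := by decide +kernel

theorem pair_chk : pairData.all (fun d =>
    decide (∀ i ∈ d.1, i < chevF4.rank) && d.2.1.ok d.1 && d.2.2.ok d.1) = true := by
  decide +kernel

theorem two_chk : twoData.all (fun d =>
    decide (∀ i ∈ d.1, i < chevF4.rank) && d.2.1.ok d.1 && decide (d.2.2.1 < chevF4.nroots) &&
      decide (wf auxF4 d.1 d.2.2.1 = d.2.2.1) &&
      pzero (padd (plin d.2.1.vec (row d.2.2.1)) (psc (-1) (pmul (cyc d.2.1.k) d.2.2.2)))) = true := by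
  decide +kernel

end CfsgLib.Chev.F4Prime
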