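/-
Consequences of the tables for eigenvectors of Weyl elements of type F4.
-/
import Cfsg.Agent.Lib.Chev.F4Prime.Check
import Cfsg.Agent.Lib.Chev.Data.WeylCheckF4

set_option autoImplicit false
set_option maxRecDepth 100000

namespace CfsgLib.Chev.F4Prime

open Cfsg.Lie CfsgLib.Chev CfsgLib.Chev.SylowTori


variable {R : Type*} [CommRing R]

attribute [local irreducible] tags

theorem lin_row (s : ℕ) (v : Fin chevF4.rank → R) : lin chevF4 auxF4 s v = phi (R := R) v (row s) := by
  rw [lin_apply]
  show ∑ j : Fin 4, (auxF4.a s j : R) * v j = _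
  rw [Fin.sum_univ_four]
  rfl

theorem phi_step {w : List ℕ} {c : R} {v : Fin chevF4.rank → R}
    (hv : v ∈ eigen R chevF4 auxF4 w c) (b : Z4) :
    phi (R := R) v (step (mat w) b) = c * phi (R := R) v b := by
  have h : ∀ i : Fin chevF4.rank, phi (R := R) v (row (wf auxF4 w (chevF4.simple i))) = c * v i := fun i => by
    rw [← lin_row]
    exact congrFun (mem_eigen.1 hv) i
  have h0 : phi (R := R) v (row (wf auxF4 w (chevF4.simple 0))) = c * v (0 : Fin 4) := h (0 : Fin 4)
  have h1 : phi (R := R) v (row (wf auxF4 w (chevF4.simple 1))) = c * v (1 : Fin 4) := h (1 : Fin 4)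
  have h2 : phi (R := R) v (row (wf auxF4 w (chevF4.simple 2))) = c * v (2 : Fin 4) := h (2 : Fin 4)
  have h3 : phi (R := R) v (row (wf auxF4 w (chevF4.simple 3))) = c * v (3 : Fin 4) := h (3 : Fin 4)
  obtain ⟨x, y, z, t⟩ := b
  simp only [row, phi] at h0 h1 h2 h3
  simp only [mat, row, step, phi]
  push_cast
  linear_combination (x : R) * h0 + (y : R) * h1 + (z : R) * h2 + (t : R) * h3

theorem row_wf {w : List ℕ} (hw : Letters chevF4 w) {s : ℕ} (hs : s < chevF4.nroots) :
    row (wf auxF4 w s) = step (mat w) (row s) := by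
  have h : ∀ j, j < chevF4.rank → auxF4.a (wf auxF4 w s) j =
      auxF4.a s 0 * auxF4.a (wf auxF4 w (chevF4.simple 0)) j +
      auxF4.a s 1 * auxF4.a (wf auxF4 w (chevF4.simple 1)) j +
      auxF4.a s 2 * auxF4.a (wf auxF4 w (chevF4.simple 2)) j +
      auxF4.a s 3 * auxF4.a (wf auxF4 w (chevF4.simple 3)) j := fun j hj => by
    rw [a_wf stdF4.good hw hs hj]
    show (∑ k : Fin 4, _) = _
    rw [Fin.sum_univ_four]
    rfl
  simp only [row, mat, step]
  rw [h 0 (by decide), h 1 (by decide), h 2 (by decide), h 3 (by decide)]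

theorem mat_congr {w w' : List ℕ} (h : SameOn chevF4 (wf auxF4 w) (wf auxF4 w')) : mat w = mat w' := by
  simp only [mat, h _ (stdF4.good.simple_lt 0 (by decide)), h _ (stdF4.good.simple_lt 1 (by decide)),
    h _ (stdF4.good.simple_lt 2 (by decide)), h _ (stdF4.good.simple_lt 3 (by decide))]

/-- a product of cyclotomic polynomials that annihilates the word, with the orbit condition -/
theorem exists_ann {w : List ℕ} (hw : Letters chevF4 w) :
    ∃ S ∈ annList, (∀ b ∈ units4, app (mat w) (cprod S) b = (0, 0, 0, 0)) ∧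
      ((8 ∈ S ∨ 12 ∈ S) → ∀ r < chevF4.nroots,
        det4 (row r, step (mat w) (row r), step (mat w) (step (mat w) (row r)),
          step (mat w) (step (mat w) (step (mat w) (row r)))) ∈ ([1, 2, 4, 8, -1, -2, -4, -8] : List ℤ)) := by
  obtain ⟨w', hw', hs⟩ := exists_NF stdF4.good weylOKF4 hw
  obtain ⟨i, hi, rfl⟩ := List.getElem_of_mem hw'
  have hi' : i < tags.length := by rw [tags_len]; exact hi
  have hz : ((NF weylF4 chevF4.rank)[i], tags[i]) ∈ (NF weylF4 chevF4.rank).zip tags :=
    List.mem_iff_getElem.2 ⟨i, by rw [List.length_zip]; omega, List.getElem_zip⟩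
  have h1 := (List.all_eq_true.1 ann_chk) _ hz
  have h2 := (List.all_eq_true.1 span_chk) _ hz
  simp only [Bool.and_eq_true, decide_eq_true_eq] at h1
  obtain ⟨ht, h1⟩ := h1
  refine ⟨annList.getD tags[i] [], ?_, fun b hb => ?_, fun h8 r hr => ?_⟩
  · rw [List.getD_eq_getElem _ _ ht]
    exact List.getElem_mem ht
  · rw [mat_congr hs]
    exact beq_iff_eq.1 ((List.all_eq_true.1 h1) b hb)
  · rw [mat_congr hs]
    rcases Bool.or_eq_true_iff.1 h2 with h | h
    · rw [Bool.not_eq_true', List.any_eq_false] at h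
      rcases h8 with e | e <;> simpa using h _ e
    · simpa using (List.all_eq_true.1 h) r (List.mem_range.2 hr)

theorem units_phi (v : Fin 4 → R) (h : ∀ b ∈ units4, phi v b = 0) : v = 0 := by
  funext i
  have h0 := h (1, 0, 0, 0) (by decide)
  have h1 := h (0, 1, 0, 0) (by decide)
  have h2 := h (0, 0, 1, 0) (by decide)
  have h3 := h (0, 0, 0, 1) (by decide)
  simp [phi] at h0 h1 h2 h3
  fin_cases i <;> simp [h0, h1, h2, h3]

/-- the eigenvalue is a root of the annihilating polynomial -/
theorem ann_root {K : Type*} [Field K] {w : List ℕ} {S : List ℕ} {c : K}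
    (hS : ∀ b ∈ units4, app (mat w) (cprod S) b = (0, 0, 0, 0)) {v : Fin chevF4.rank → K}
    (hv : v ∈ eigen K chevF4 auxF4 w c) (h0 : v ≠ 0) : ∃ k ∈ S, ev (cyc k) c = 0 := by
  have h1 : ev (cprod S) c = 0 := by
    by_contra hne
    refine h0 (units_phi (R := K) v fun b hb => ?_)
    have := phi_app (phi_step hv) b (cprod S)
    rw [hS b hb] at this
    simp only [phi, Int.cast_zero, zero_mul, add_zero] at this
    exact (mul_eq_zero.1 this.symm).resolve_left hne
  rw [ev_cprod, List.prod_eq_zero_iff, List.mem_map] at h1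
  exact h1

/-- an eigenvector for an eighth or twelfth root of unity kills no root -/
theorem no_root_killed {K : Type*} [Field K] (h2 : (2 : K) ≠ 0) {w : List ℕ} {c : K}
    (hS : ∀ r < chevF4.nroots,
      det4 (row r, step (mat w) (row r), step (mat w) (step (mat w) (row r)),
        step (mat w) (step (mat w) (step (mat w) (row r)))) ∈ ([1, 2, 4, 8, -1, -2, -4, -8] : List ℤ))
    {v : Fin chevF4.rank → K} (hv : v ∈ eigen K chevF4 auxF4 w c) (h0 : v ≠ 0) {r : ℕ}
    (hr : r < chevF4.nroots) : lin chevF4 auxF4 r v ≠ 0 := by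
  intro e
  rw [lin_row] at e
  refine h0 (funext fun i => ?_)
  have hk := det4_kills (R := K) v (row r, step (mat w) (row r), step (mat w) (step (mat w) (row r)),
    step (mat w) (step (mat w) (step (mat w) (row r)))) e
    (by rw [phi_step hv, e, mul_zero]) (by rw [phi_step hv, phi_step hv, e, mul_zero, mul_zero])
    (by rw [phi_step hv, phi_step hv, phi_step hv, e, mul_zero, mul_zero, mul_zero]) i
  refine (mul_eq_zero.1 hk).resolve_left ?_
  have hd := hS r hr
  simp only [List.mem_cons, List.not_mem_nil, or_false] at hd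
  have h4 : (4 : K) ≠ 0 := by rw [show (4 : K) = 2 * 2 by norm_num]; exact mul_ne_zero h2 h2
  have h8 : (8 : K) ≠ 0 := by rw [show (8 : K) = 4 * 2 by norm_num]; exact mul_ne_zero h4 h2
  rcases hd with e | e | e | e | e | e | e | e <;> rw [e] <;>
    simp [h2, h4, h8]

/-- a nontrivial element of order two or three moves every vector that kills no root -/
theorem small_moves {K : Type*} [Field K] (h2 : (2 : K) ≠ 0) (h3 : (3 : K) ≠ 0) {w : List ℕ}
    (hw : Letters chevF4 w) (hp : mul4 (mat w) (mat w) = one4 ∨ mul4 (mat w) (mul4 (mat w) (mat w)) = one4)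
    {v : Fin chevF4.rank → K}
    (hfix : ∀ r < chevF4.nroots, lin chevF4 auxF4 (wf auxF4 w r) v = lin chevF4 auxF4 r v)
    (hno : ∀ r < chevF4.nroots, lin chevF4 auxF4 r v ≠ 0) : mat w = one4 := by
  obtain ⟨w', hw', hs⟩ := exists_NF stdF4.good weylOKF4 hw
  have hm := mat_congr hs
  have hc := (List.all_eq_true.1 small_chk) w' hw'
  rw [smallOK, ← hm] at hc
  simp only [Bool.or_eq_true, Bool.and_eq_true, beq_iff_eq, bne_iff_ne, List.any_eq_true,
    List.mem_range] at hc
  have hst : ∀ r < chevF4.nroots, phi (R := K) v (step (mat w) (row r)) = phi (R := K) v (row r) := fun r hr => by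
    rw [← row_wf hw hr, ← lin_row, ← lin_row, hfix r hr]
  rcases hc with h | ⟨ha, hb⟩
  · exact h
  exfalso
  rcases hp with h | h
  · obtain ⟨r, hr, e⟩ := ha.resolve_left (not_not_intro h)
    have := congrArg (phi (R := K) v) e
    rw [phi_add (R := K) v, hst r hr, ← lin_row] at this
    simp [phi] at this
    refine hno r hr ((mul_eq_zero.1 (?_ : (2 : K) * _ = 0)).resolve_left h2)
    rw [two_mul]; exact this
  · obtain ⟨r, hr, e⟩ := hb.resolve_left (not_not_intro h)
    have := congrArg (phi (R := K) v) e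
    rw [phi_add (R := K) v, phi_add (R := K) v, ← row_wf hw hr, hst _ (wf_lt stdF4.good hw hr), ← lin_row, ← lin_row, hfix r hr] at this
    simp [phi] at this
    refine hno r hr ((mul_eq_zero.1 (?_ : (3 : K) * _ = 0)).resolve_left h3)
    linear_combination this

end CfsgLib.Chev.F4Prime
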