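/-
Commuting elements of prime order and twisted eigenvectors of the Weyl group.
-/
import Cfsg.Agent.Lib.Chev.OddInvol.Cent
import Cfsg.Agent.Lib.Chev.SylowTori.Torus

set_option autoImplicit false

namespace CfsgLib.Chev.F4Prime

open Cfsg.Lie Matrix CfsgLib.Chev CfsgLib.Chev.Lang CfsgLib.Chev.SylowTori
open CfsgLib.KnownB.ChevField (map_tor group_map_le Unimodular tor_eq_iff chi_inj)

universe u

variable {D : ChevalleyDatum} {A : Aux}

/-- an element of prime order is conjugate into a subgroup of index prime to that order -/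
theorem conj_into {G : Type*} [Group G] [Finite G] (T : Subgroup G) {p M : ℕ} [Fact p.Prime]
    (hM : Nat.card G = Nat.card T * M) (hp : ¬ p ∣ M) {x : G} (hx : x ^ p = 1) :
    ∃ k : G, k * x * k⁻¹ ∈ T := by
  have hi : T.index = M := by
    have h := T.card_mul_index
    rw [hM] at h
    exact Nat.eq_of_mul_eq_mul_left Nat.card_pos h
  have hP : IsPGroup p (Subgroup.zpowers x) := by
    obtain ⟨k, -, hk⟩ := (Nat.dvd_prime_pow (Fact.out : p.Prime) (m := 1)
        (i := Nat.card (Subgroup.zpowers x))).1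
      (by rw [pow_one, Nat.card_zpowers]; exact orderOf_dvd_of_pow_eq_one hx)
    exact IsPGroup.of_card hk
  obtain ⟨c, hc⟩ := hP.nonempty_fixed_point_of_prime_not_dvd_card (G ⧸ T)
    (by rw [← Subgroup.index, hi]; exact hp)
  induction c using QuotientGroup.induction_on with
  | _ g =>
    refine ⟨g⁻¹, ?_⟩
    have h : QuotientGroup.mk (x * g) = (QuotientGroup.mk g : G ⧸ T) :=
      hc ⟨x, Subgroup.mem_zpowers x⟩
    have := inv_mem ((QuotientGroup.eq).1 h)
    rw [_root_.mul_inv_rev, inv_inv] at this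
    rwa [inv_inv, mul_assoc]

open Classical in
/-- the stabiliser of a toral element in the Weyl group -/
noncomputable def St (g : Good D A) {L : Type*} [Field L] (c : Fin D.rank → Lˣ) :
    Subgroup (Weyl g) where
  carrier := {w | ∀ r : Fin D.nroots, chi D A c (w.1 r).val = chi D A c r.val}
  one_mem' := fun r => rfl
  mul_mem' := fun {a b} ha hb r => by
    rw [Subgroup.coe_mul, Equiv.Perm.mul_apply, ha, hb]
  inv_mem' := fun {a} ha r => by
    have := ha ((a⁻¹ : Weyl g).1 r)
    rw [Subgroup.coe_inv] at this ⊢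
    rw [← this]
    simp

/-- inside the centraliser of a toral element, an element of prime order is conjugate into the torus -/
theorem toral_step {L : Type*} [Field L] [Fintype L] (h : Std D A) (c : Fin D.rank → Lˣ)
    {p : ℕ} [Fact p.Prime] (hp : p ∣ Fintype.card L - 1 ∨ ∀ r < D.nroots, chi D A c r ≠ 1)
    (hSt : ¬ p ∣ Nat.card (St h.good c))
    {x : GL D.Idx L} (hx : x ∈ D.group L) (hxp : x ^ p = 1)
    (hxc : x * tor D A c = tor D A c * x) :
    ∃ k ∈ D.group L, k * tor D A c = tor D A c * k ∧ ∃ d, k * x * k⁻¹ = tor D A d := by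
  classical
  have g := h.good
  have : Finite (GL D.Idx L) := finite_GL
  set C := D.group L ⊓ Subgroup.centralizer ({tor D A c} : Set (GL D.Idx L))
  have hmem : ∀ y, y ∈ C ↔ y ∈ D.group L ∧ y * tor D A c = tor D A c * y := fun y => by
    rw [Subgroup.mem_inf, Subgroup.mem_centralizer_singleton_iff]
  have hTC : D.diagonalSubgroup L ≤ C := fun y hy => (hmem y).2 ⟨diagonalSubgroup_le_group g hy, by
    obtain ⟨d, rfl⟩ : y ∈ (tor D A).range := by rw [← diagonalSubgroup_eq g]; exact hy
    exact tor_mul_comm d c⟩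
  have hcard := OddInvol.card_cent_tor h c (R := fun r => decide (chi D A c r = 1))
    (fun r => (decide_eq_true_iff).symm)
    (St := Finset.univ.filter fun w => w ∈ St g c)
    (fun w => by simp only [Finset.mem_filter, Finset.mem_univ, true_and]; rfl)
  have hC : Nat.card C = Nat.card {y : GL D.Idx L // y ∈ D.group L ∧ y * tor D A c = tor D A c * y} :=
    Nat.card_congr (Equiv.subtypeEquivRight hmem)
  rw [hcard, mul_comm (_ ^ _) (Nat.card _), mul_assoc,
    ← Nat.card_congr (Subgroup.subgroupOfEquivOfLe hTC).toEquiv] at hC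
  have hconj := fun hM => conj_into ((D.diagonalSubgroup L).subgroupOf C) hC (p := p) hM
    (x := ⟨x, (hmem x).2 ⟨hx, hxc⟩⟩) (Subtype.ext hxp)
  obtain ⟨k, hk⟩ := hconj (by
    intro hdvd
    refine hSt ?_
    rw [← ZMod.natCast_eq_zero_iff] at hdvd ⊢
    push_cast at hdvd
    rcases hp with hp | hp
    · have h1 : (Fintype.card L : ZMod p) = 1 := by
        have := (ZMod.natCast_eq_zero_iff _ _).2 hp
        rwa [Nat.cast_sub Fintype.card_pos, Nat.cast_one, sub_eq_zero] at this
      simp only [h1, one_pow, one_mul, Finset.sum_const, nsmul_eq_mul, mul_one] at hdvd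
      rw [← hdvd, Nat.card_eq_fintype_card, Fintype.card_subtype]
    · have he : (D.posRoots.toFinset.filter fun r => decide (chi D A c r = 1) = true) = ∅ :=
        Finset.filter_eq_empty_iff.2 fun r hr => by
          rw [List.mem_toFinset, posRoots_mem] at hr
          simp [hp r hr.1]
      simp only [he, Finset.filter_empty, Finset.card_empty, pow_zero, one_mul, Finset.sum_const,
        nsmul_eq_mul, mul_one] at hdvd
      rw [← hdvd, Nat.card_eq_fintype_card, Fintype.card_subtype])
  · obtain ⟨d, hd⟩ : (k : GL D.Idx L) * x * (k : GL D.Idx L)⁻¹ ∈ (tor D A).range := by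
      rw [← diagonalSubgroup_eq g]; exact Subgroup.mem_subgroupOf.1 hk
    exact ⟨k, ((hmem _).1 k.2).1, ((hmem _).1 k.2).2, d, hd.symm⟩

/-- a finite extension with enough roots of unity -/
theorem exists_ext {F : Type u} [Field F] [Fintype F] {m : ℕ} (hm : 0 < m)
    (hco : (Fintype.card F).Coprime m) :
    ∃ (L : Type) (_ : Field L) (_ : Fintype L) (ι : F →+* L) (σ : L →+* L),
      (∀ x, σ x = x ^ Fintype.card F) ∧ (∀ x, σ (ι x) = ι x) ∧ m ∣ Fintype.card L - 1 := by
  obtain ⟨p, _⟩ := CharP.exists F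
  have : Fact p.Prime := ⟨CharP.char_is_prime F p⟩
  have : NeZero (Nat.totient m) := ⟨(Nat.totient_pos.2 hm).ne'⟩
  let L := FiniteField.Extension F p (Nat.totient m)
  have hL : Nat.card L = Fintype.card F ^ Nat.totient m := by
    rw [FiniteField.natCard_extension, Nat.card_eq_fintype_card]
  have : Finite L := Nat.finite_of_card_ne_zero (by
    rw [hL]; exact pow_ne_zero _ Fintype.card_ne_zero)
  have := Fintype.ofFinite L
  refine ⟨L, inferInstance, inferInstance, algebraMap F L,
    (FiniteField.frobeniusAlgHom F L).toRingHom, fun _ => rfl, fun x => ?_, ?_⟩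
  · show algebraMap F L x ^ Fintype.card F = _
    rw [← map_pow, FiniteField.pow_card]
  · rw [← Nat.card_eq_fintype_card, hL]
    exact (Nat.modEq_iff_dvd' (Nat.one_le_pow _ _ Fintype.card_pos)).1
      (Nat.ModEq.pow_totient hco).symm

/-- the Weyl element attached to a conjugator of rational elements -/
theorem exists_rel (h : Std D A) {F : Type u} {L : Type*} [Field F] [Fintype F] [Field L] {ι : F →+* L}
    {σ : L →+* L} (hσ : ∀ x, σ x = x ^ Fintype.card F) (hσι : ∀ x, σ (ι x) = ι x)
    {k : GL D.Idx L} (hk : k ∈ D.group L) :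
    ∃ w, Letters D w ∧ ∀ (x : GL D.Idx F) (c : Fin D.rank → Lˣ),
      k * Matrix.GeneralLinearGroup.map ι x * k⁻¹ = tor D A c →
        ∀ r < D.nroots, chi D A c (wf A w r) = chi D A c r ^ Fintype.card F := by
  have g := h.good
  set m := Matrix.GeneralLinearGroup.map (n := D.Idx) σ
  obtain ⟨w, hw, hfus⟩ := fusion h (hh := m k * k⁻¹)
    (mul_mem (group_map_le g σ ⟨_, hk, rfl⟩) (inv_mem hk))
  refine ⟨w.reverse, hw.reverse, fun x c hx r hr => ?_⟩
  set c' : Fin D.rank → Lˣ := fun i => Units.map (σ : L →* L) (c i)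
  have hxfix : m (Matrix.GeneralLinearGroup.map ι x) = Matrix.GeneralLinearGroup.map ι x :=
    Units.ext (Matrix.ext fun i j => hσι _)
  have hd : ∀ e : Fin D.rank → Lˣ,
      dgn D A (fun i => chi D A e (D.simple i)) ∈ D.diagonalSubgroup L := fun e => by
    rw [← tor_eq_dgn g, diagonalSubgroup_eq g]; exact ⟨e, rfl⟩
  have hmc : m (tor D A c) = tor D A c' := map_tor σ c
  have hconj := hfus _ _ (hd c) (hd c') (by
    rw [← tor_eq_dgn g, ← tor_eq_dgn g, ← hmc, ← hx, map_mul, map_mul, map_inv, hxfix]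
    group)
  rw [← tor_eq_dgn g, ← tor_eq_dgn g] at hconj
  have hr' := wf_lt g hw.reverse hr
  have := OddInvol.chi_conj h (nW_acts g hw) hconj hr'
  rw [wf_rev_right g hw hr] at this
  rw [← this]
  simp only [chi, c', ← Finset.prod_pow]
  refine Finset.prod_congr rfl fun i _ => ?_
  rw [← map_zpow]
  exact Units.ext (hσ _)

/-- the eigenvector of a toral element of prime order -/
theorem exists_vec {L : Type*} [Field L] [Finite L] (g : Good D A) (hU : Unimodular D)
    {p : ℕ} [Fact p.Prime] (hp : p ∣ Nat.card L - 1) {c : Fin D.rank → Lˣ} (hcp : c ^ p = 1)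
    (hc : c ≠ 1) :
    ∃ v : Fin D.rank → ZMod p, v ≠ 0 ∧
      (∀ r < D.nroots, chi D A c r = 1 ↔ lin D A r v = 0) ∧
      (∀ r < D.nroots, ∀ s < D.nroots, chi D A c r = chi D A c s ↔ lin D A r v = lin D A s v) ∧
      (∀ w, Letters D w → ∀ q : ℕ, (∀ r < D.nroots, chi D A c (wf A w r) = chi D A c r ^ q) →
        v ∈ eigen (ZMod p) D A w (q : ZMod p)) := by
  have hp' := (Fact.out : p.Prime)
  have : NeZero p := ⟨hp'.ne_zero⟩
  obtain ⟨γ, hγ⟩ := IsCyclic.exists_ofOrder_eq_natCard (α := Lˣ)
  rw [Nat.card_units] at hγ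
  obtain ⟨k, hk⟩ := hp
  have hpos : 0 < Nat.card L - 1 := by
    have := Finite.one_lt_card (α := L)
    omega
  have hζ : IsPrimitiveRoot (γ ^ k) p :=
    (hγ ▸ IsPrimitiveRoot.orderOf γ).pow hpos (by rw [hk, mul_comm])
  set ζ := γ ^ k
  have hex : ∀ i : Fin D.rank, ∃ z : ZMod p, zp ζ z = chi D A c (D.simple i) := by
    intro i
    have hζ' : IsPrimitiveRoot (ζ : L) p := IsPrimitiveRoot.coe_units_iff.2 hζ
    have h1 : chi D A c (D.simple i) ^ p = 1 := by
      rw [chi, ← Finset.prod_pow, Finset.prod_eq_one]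
      intro j _
      rw [← zpow_natCast, zpow_comm, zpow_natCast, show c j ^ p = 1 from congrFun hcp j,
        _root_.one_zpow]
    obtain ⟨j, -, hj⟩ := hζ'.eq_pow_of_pow_eq_one (ξ := (chi D A c (D.simple i) : L))
      (by rw [← Units.val_pow_eq_pow_val, h1, Units.val_one])
    refine ⟨((j : ℤ) : ZMod p), ?_⟩
    rw [zp_cast hζ, zpow_natCast]
    exact Units.ext (by rw [Units.val_pow_eq_pow_val]; exact hj)
  choose v hv using hex
  have hwt : ∀ r < D.nroots, chi D A c r = zp ζ (lin D A r v) := fun r hr => by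
    rw [← wt_zp hζ, chi_eq_wt g c hr, wt, wt]
    refine Finset.prod_congr rfl fun j hj => ?_
    rw [Lang.ext, dif_pos (Finset.mem_range.1 hj)]
    exact congrArg (· ^ A.a r j) (hv ⟨j, Finset.mem_range.1 hj⟩).symm
  have h0 : zp ζ (0 : ZMod p) = 1 := by simpa using zp_cast hζ (0 : ℤ)
  refine ⟨v, fun e => hc (chi_inj g hU fun r hr => ?_), fun r hr => ?_, fun r hr s hs => ?_,
    fun w hw q hrel => ?_⟩
  · rw [hwt r hr, e, map_zero, h0, chi_one]
  · rw [hwt r hr]
    exact ⟨fun e => zp_inj hζ (e.trans h0.symm), fun e => by rw [e, h0]⟩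
  · rw [hwt r hr, hwt s hs]
    exact ⟨fun e => zp_inj hζ e, fun e => by rw [e]⟩
  · rw [mem_eigen]
    funext i
    apply zp_inj hζ
    rw [Pi.smul_apply, smul_eq_mul, zp_nat hζ, Phi, LinearMap.pi_apply,
      ← hwt _ (wf_lt g hw (g.simple_lt i i.isLt)), hrel _ (g.simple_lt i i.isLt), hv]

end CfsgLib.Chev.F4Prime
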