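/-
Pairs of primes that are not joined in the prime graph of `F₄(2ⁿ)`.
-/
import Cfsg.Agent.Lib.Chev.F4Prime.Toral
import Cfsg.Agent.Lib.Chev.F4Prime.Bridge
import Cfsg.Agent.Lib.Chev.F4Prime.Arith

set_option autoImplicit false
set_option maxRecDepth 100000

namespace CfsgLib.Chev.F4Prime

open Cfsg.Lie Matrix CfsgLib.Chev CfsgLib.Chev.SylowTori
open CfsgLib.KnownB.ChevField (tor_eq_iff group_map_le unimodular_F4 chi_inj)

universe u

theorem card_weyl_F4 : Nat.card (Weyl stdF4.good) = 1152 :=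
  (weyl_card_deg stdF4.good weylOKF4 poinF4).trans (by norm_num)

theorem mat_nil : mat [] = one4 := by decide +kernel

theorem mat_append {u w : List ℕ} (hu : Letters chevF4 u) (hw : Letters chevF4 w) :
    mat (u ++ w) = mul4 (mat w) (mat u) := by
  have hs := fun i => stdF4.good.simple_lt i
  show (row (wf auxF4 (u ++ w) _), row (wf auxF4 (u ++ w) _), row (wf auxF4 (u ++ w) _),
    row (wf auxF4 (u ++ w) _)) = _
  simp only [wf_append, row_wf hu (wf_lt stdF4.good hw (hs 0 (by decide))),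
    row_wf hu (wf_lt stdF4.good hw (hs 1 (by decide))),
    row_wf hu (wf_lt stdF4.good hw (hs 2 (by decide))),
    row_wf hu (wf_lt stdF4.good hw (hs 3 (by decide)))]
  rfl

/-- the stabiliser of a toral element that kills no root has order prime to six -/
theorem St_small {L : Type} [Field L] {s : ℕ} [Fact s.Prime] (hs2 : (2 : ZMod s) ≠ 0)
    (hs3 : (3 : ZMod s) ≠ 0) {c : Fin chevF4.rank → Lˣ} {v : Fin chevF4.rank → ZMod s}
    (heq : ∀ r < chevF4.nroots, ∀ t < chevF4.nroots, chi chevF4 auxF4 c r = chi chevF4 auxF4 c t ↔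
      lin chevF4 auxF4 r v = lin chevF4 auxF4 t v)
    (hno : ∀ r < chevF4.nroots, lin chevF4 auxF4 r v ≠ 0) {p : ℕ} (hp : p = 2 ∨ p = 3) :
    ¬ p ∣ Nat.card (St stdF4.good c) := by
  intro hdvd
  have g := stdF4.good
  have : Fact p.Prime := ⟨by rcases hp with rfl | rfl <;> norm_num⟩
  obtain ⟨⟨u, hu⟩, hord⟩ := exists_prime_orderOf_dvd_card' p hdvd
  rw [← Subgroup.orderOf_coe] at hord
  obtain ⟨l, rfl⟩ := wS_gen stdF4.good u
  change orderOf (l.map (wS stdF4.good)).prod = p at hord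
  set w := l.map Fin.val
  have hw : Letters chevF4 w := letters_map l
  have hfix : ∀ r < chevF4.nroots, lin chevF4 auxF4 (wf auxF4 w r) v = lin chevF4 auxF4 r v := by
    intro r hr
    have := hu ⟨r, hr⟩
    rw [wS_prod_apply] at this
    exact (heq _ (wf_lt g hw hr) r hr).1 this
  have hpow : mat (List.replicate p w).flatten = one4 := by
    have e : (((List.replicate p l).flatten.map (wS stdF4.good)).prod : Weyl stdF4.good) =
        (([] : List (Fin chevF4.rank)).map (wS stdF4.good)).prod := by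
      rw [List.map_flatten, List.map_replicate, List.prod_flatten, List.map_replicate,
        List.prod_replicate, ← hord]
      exact pow_orderOf_eq_one _
    have h1 := mat_congr ((wS_prod_eq stdF4.good).1 e)
    rw [List.map_flatten, List.map_replicate] at h1
    exact h1.trans mat_nil
  have hp' : mul4 (mat w) (mat w) = one4 ∨ mul4 (mat w) (mul4 (mat w) (mat w)) = one4 := by
    rcases hp with rfl | rfl
    · left
      rw [← hpow, ← mat_append hw hw]
      simp [List.replicate]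
    · right
      rw [← hpow, ← mat_append hw hw, ← mat_append (hw.append hw) hw]
      simp [List.replicate, List.append_assoc]
  have h1 := small_moves hs2 hs3 hw hp' hfix hno
  rw [← mat_nil] at h1
  simp only [mat, Prod.mk.injEq] at h1
  have hnil : Letters chevF4 [] := fun _ h => absurd h List.not_mem_nil
  have hsame : SameOn chevF4 (wf auxF4 w) (wf auxF4 []) := by
    refine sameOn_of_simple g (wf_rootMap g hw) (wf_rootMap g hnil) fun m hm => ?_
    have hr : row (wf auxF4 w (chevF4.simple m)) = row (wf auxF4 [] (chevF4.simple m)) := by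
      have : m = 0 ∨ m = 1 ∨ m = 2 ∨ m = 3 := by
        have : m < 4 := hm
        omega
      rcases this with rfl | rfl | rfl | rfl
      · exact h1.1
      · exact h1.2.1
      · exact h1.2.2.1
      · exact h1.2.2.2
    simp only [row, Prod.mk.injEq] at hr
    refine g.a_inj _ (wf_lt g hw (g.simple_lt m hm)) _ (wf_lt g hnil (g.simple_lt m hm)) fun j hj => ?_
    have : j = 0 ∨ j = 1 ∨ j = 2 ∨ j = 3 := by
      have : j < 4 := hj
      omega
    rcases this with rfl | rfl | rfl | rfl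
    · exact hr.1
    · exact hr.2.1
    · exact hr.2.2.1
    · exact hr.2.2.2
  have h2 : (l.map (wS stdF4.good)).prod = (([] : List (Fin chevF4.rank)).map (wS stdF4.good)).prod :=
    (wS_prod_eq stdF4.good).2 hsame
  rw [h2, List.map_nil, List.prod_nil] at hord
  rw [orderOf_one] at hord
  omega

variable {F : Type u} [Field F] [Fintype F]

/-- the two parts of an element of order `r * s` in a finite extension -/
theorem split_parts (hF2 : ∃ n, Fintype.card F = 2 ^ n) {r s : ℕ} (hr : r.Prime) [Fact s.Prime]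
    (hs5 : 5 ≤ s) (hne : r ≠ s) {x : ↥(chevF4.group F)} (hx : orderOf x = r * s) :
    ∃ (L : Type) (_ : Field L) (_ : Fintype L) (ι : F →+* L) (σ : L →+* L),
      (∀ z, σ z = z ^ Fintype.card F) ∧ (∀ z, σ (ι z) = ι z) ∧ (2 : L) = 0 ∧
      s ∣ Fintype.card L - 1 ∧ (r ≠ 2 → r ∣ Fintype.card L - 1) ∧
      ∃ k ∈ chevF4.group L, ∃ c : Fin chevF4.rank → Lˣ, c ^ s = 1 ∧ c ≠ 1 ∧
        k * Matrix.GeneralLinearGroup.map ι (x ^ r : ↥(chevF4.group F)).1 * k⁻¹ = tor chevF4 auxF4 c ∧
        ∃ y ∈ chevF4.group L,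
          k * Matrix.GeneralLinearGroup.map ι (x ^ s : ↥(chevF4.group F)).1 * k⁻¹ = y ∧
          y ^ r = 1 ∧ y ≠ 1 ∧ y * tor chevF4 auxF4 c = tor chevF4 auxF4 c * y := by
  classical
  obtain ⟨n, hn⟩ := hF2
  have hsp := (Fact.out : s.Prime)
  set m := if r = 2 then s else r * s with hm
  have hco2 : ∀ p : ℕ, p.Prime → p ≠ 2 → (Fintype.card F).Coprime p := fun p hp h => by
    rw [hn]
    exact Nat.Coprime.pow_left _ ((Nat.coprime_primes Nat.prime_two hp).2 h.symm)
  have hco : (Fintype.card F).Coprime m := by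
    rw [hm]
    split_ifs with h
    · exact hco2 s hsp (by omega)
    · exact Nat.Coprime.mul_right (hco2 r hr h) (hco2 s hsp (by omega))
  have hm0 : 0 < m := by
    rw [hm]
    split_ifs
    · exact hsp.pos
    · exact Nat.mul_pos hr.pos hsp.pos
  obtain ⟨L, _, _, ι, σ, hσ, hσι, hmL⟩ := exists_ext hm0 hco
  have hsL : s ∣ Fintype.card L - 1 := by
    refine dvd_trans ?_ hmL
    rw [hm]; split_ifs <;> simp
  have hrL : r ≠ 2 → r ∣ Fintype.card L - 1 := fun h => by
    refine dvd_trans ?_ hmL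
    rw [hm, if_neg h]; simp
  have h2L : (2 : L) = 0 := by
    have h2F : (2 : F) = 0 := by
      have h : ((2 ^ n : ℕ) : F) = 0 := by rw [← hn]; exact FiniteField.cast_card_eq_zero F
      rw [Nat.cast_pow, Nat.cast_ofNat] at h
      exact eq_zero_of_pow_eq_zero h
    rw [← map_ofNat ι 2, h2F, map_zero]
  set φ : ↥(chevF4.group F) →* GL chevF4.Idx L :=
    (Matrix.GeneralLinearGroup.map ι).comp (chevF4.group F).subtype
  have hφ : Function.Injective φ := fun a b e =>
    Subtype.ext (Units.ext (Matrix.map_injective ι.injective (congrArg Units.val e)))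
  have hφm : ∀ a, φ a ∈ chevF4.group L := fun a => group_map_le stdF4.good ι ⟨a.1, a.2, rfl⟩
  have hord : orderOf (φ x) = r * s := by rw [orderOf_injective φ hφ, hx]
  have hrne : φ (x ^ r) ≠ 1 := fun e => by
    have := Nat.le_of_dvd hr.pos (hord ▸ orderOf_dvd_of_pow_eq_one (by rw [← map_pow]; exact e))
    nlinarith [hr.two_le]
  have hsne : φ (x ^ s) ≠ 1 := fun e => by
    have := Nat.le_of_dvd hsp.pos (hord ▸ orderOf_dvd_of_pow_eq_one (by rw [← map_pow]; exact e))
    nlinarith [hr.two_le]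
  have hpow : φ x ^ (r * s) = 1 := hord ▸ pow_orderOf_eq_one _
  have hW : ¬ s ∣ Nat.card (St stdF4.good (1 : Fin chevF4.rank → Lˣ)) := fun h => by
    have h1 := h.trans (Subgroup.card_subgroup_dvd_card _)
    rw [card_weyl_F4, show 1152 = 2 ^ 7 * 3 ^ 2 by norm_num] at h1
    rcases hsp.dvd_mul.1 h1 with h2 | h2
    · have := Nat.le_of_dvd two_pos (hsp.dvd_of_dvd_pow h2); omega
    · have := Nat.le_of_dvd three_pos (hsp.dvd_of_dvd_pow h2); omega
  obtain ⟨k, hk, -, c, hc⟩ := toral_step stdF4 1 (Or.inl hsL) hW (hφm (x ^ r))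
    (by rw [← map_pow, ← pow_mul, map_pow, hpow]) (by simp)
  have hc' : k * Matrix.GeneralLinearGroup.map ι (x ^ r : ↥(chevF4.group F)).1 * k⁻¹ =
      tor chevF4 auxF4 c := hc
  refine ⟨L, inferInstance, inferInstance, ι, σ, hσ, hσι, h2L, hsL, hrL, k, hk, c, ?_, ?_, hc',
    k * φ (x ^ s) * k⁻¹, mul_mem (mul_mem hk (hφm _)) (inv_mem hk), rfl, ?_, ?_, ?_⟩
  · refine tor_eq_iff stdF4.good unimodular_F4 ?_
    rw [map_pow, map_one, ← hc, conj_pow, ← map_pow, ← pow_mul, map_pow, hpow]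
    simp
  · intro e
    rw [e, map_one, mul_inv_eq_one] at hc
    exact hrne (mul_left_cancel (hc.trans (mul_one k).symm))
  · rw [conj_pow, ← map_pow, ← pow_mul, map_pow, mul_comm s r, hpow]
    simp
  · intro e
    rw [mul_inv_eq_one] at e
    exact hsne (mul_left_cancel (e.trans (mul_one k).symm))
  · rw [← hc, show k * φ (x ^ s) * k⁻¹ * (k * φ (x ^ r) * k⁻¹) = k * (φ (x ^ s) * φ (x ^ r)) * k⁻¹ by group,
      show k * φ (x ^ r) * k⁻¹ * (k * φ (x ^ s) * k⁻¹) = k * (φ (x ^ r) * φ (x ^ s)) * k⁻¹ by group,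
      ← map_mul, ← map_mul, ← pow_add, ← pow_add, add_comm]

theorem two_three_ne_zero {p : ℕ} [Fact p.Prime] (hp : 5 ≤ p) :
    (2 : ZMod p) ≠ 0 ∧ (3 : ZMod p) ≠ 0 := by
  constructor
  · intro e
    have := Nat.le_of_dvd two_pos ((ZMod.natCast_eq_zero_iff 2 p).1 (by exact_mod_cast e))
    omega
  · intro e
    have := Nat.le_of_dvd three_pos ((ZMod.natCast_eq_zero_iff 3 p).1 (by exact_mod_cast e))
    omega

theorem annList_sub : ∀ S ∈ annList, ∀ k ∈ S, k ∈ [1, 2, 3, 4, 6, 8, 12] := by decide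

theorem annList_big : ∀ S ∈ annList, (8 ∈ S → S = [8]) ∧ (12 ∈ S → S = [12]) := by decide

/-- two primes at least five of an element order lie in a common annihilating product -/
theorem pair_spec (hF2 : ∃ n, Fintype.card F = 2 ^ n) {r s : ℕ} [Fact r.Prime] [Fact s.Prime]
    (hr5 : 5 ≤ r) (hs5 : 5 ≤ s) (hne : r ≠ s) {x : ↥(chevF4.group F)} (hx : orderOf x = r * s) :
    ∃ S ∈ annList, orderOf (Fintype.card F : ZMod r) ∈ S ∧ orderOf (Fintype.card F : ZMod s) ∈ S := by
  have hrp := (Fact.out : r.Prime)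
  obtain ⟨L, _, _, ι, σ, hσ, hσι, -, hsL, hrL, k, hk, c, hcs, hc1, hkc, y, hy, hky, hyr, hy1, hyc⟩ :=
    split_parts hF2 hrp hs5 hne hx
  have hr2 : r ≠ 2 := by omega
  have hW : ¬ r ∣ Nat.card (St stdF4.good c) := fun h => by
    have h1 := h.trans (Subgroup.card_subgroup_dvd_card _)
    rw [card_weyl_F4, show 1152 = 2 ^ 7 * 3 ^ 2 by norm_num] at h1
    rcases hrp.dvd_mul.1 h1 with h2 | h2
    · have := Nat.le_of_dvd two_pos (hrp.dvd_of_dvd_pow h2); omega
    · have := Nat.le_of_dvd three_pos (hrp.dvd_of_dvd_pow h2); omega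
  obtain ⟨k2, hk2, hk2c, d, hd⟩ := toral_step stdF4 c (Or.inl (hrL hr2)) hW hy hyr hyc
  have hdr : d ^ r = 1 := tor_eq_iff stdF4.good unimodular_F4 (by
    rw [map_pow, map_one, ← hd, conj_pow, hyr]; simp)
  have hd1 : d ≠ 1 := fun e => by
    rw [e, map_one, mul_inv_eq_one] at hd
    exact hy1 (mul_left_cancel (hd.trans (mul_one k2).symm))
  obtain ⟨w, hw, hrel⟩ := exists_rel stdF4 hσ hσι (mul_mem hk2 hk)
  have hrc := hrel (x ^ r : ↥(chevF4.group F)).1 c (by
    rw [_root_.mul_inv_rev, show ∀ a : GL chevF4.Idx L, k2 * k * a * (k⁻¹ * k2⁻¹) =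
      k2 * (k * a * k⁻¹) * k2⁻¹ from fun a => by group, hkc, hk2c, mul_inv_cancel_right])
  have hrd := hrel (x ^ s : ↥(chevF4.group F)).1 d (by
    rw [_root_.mul_inv_rev, show ∀ a : GL chevF4.Idx L, k2 * k * a * (k⁻¹ * k2⁻¹) =
      k2 * (k * a * k⁻¹) * k2⁻¹ from fun a => by group, hky, hd])
  have hsL' : s ∣ Nat.card L - 1 := by rwa [Nat.card_eq_fintype_card]
  have hrL' : r ∣ Nat.card L - 1 := by rw [Nat.card_eq_fintype_card]; exact hrL hr2
  obtain ⟨v, hv, -, -, hve⟩ := exists_vec stdF4.good unimodular_F4 hsL' hcs hc1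
  obtain ⟨v', hv', -, -, hve'⟩ := exists_vec stdF4.good unimodular_F4 hrL' hdr hd1
  obtain ⟨S, hS, hann, -⟩ := exists_ann hw
  obtain ⟨i, hi, hi0⟩ := ann_root hann (hve' w hw _ hrd) hv'
  obtain ⟨j, hj, hj0⟩ := ann_root hann (hve w hw _ hrc) hv
  refine ⟨S, hS, ?_, ?_⟩
  · rw [order_of_root (two_three_ne_zero hr5).1 (two_three_ne_zero hr5).2 (annList_sub S hS i hi) hi0]
    exact hi
  · rw [order_of_root (two_three_ne_zero hs5).1 (two_three_ne_zero hs5).2 (annList_sub S hS j hj) hj0]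
    exact hj

/-- two and three are not joined to a prime of order eight or twelve -/
theorem no_small (hF2 : ∃ n, Fintype.card F = 2 ^ n) {r s : ℕ} (hr : r = 2 ∨ r = 3) [Fact s.Prime]
    (hs5 : 5 ≤ s) (he : orderOf (Fintype.card F : ZMod s) = 8 ∨ orderOf (Fintype.card F : ZMod s) = 12)
    {x : ↥(chevF4.group F)} (hx : orderOf x = r * s) : False := by
  have hrp : r.Prime := by rcases hr with rfl | rfl <;> norm_num
  have : Fact r.Prime := ⟨hrp⟩
  have h23 := two_three_ne_zero (p := s) hs5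
  obtain ⟨L, _, _, ι, σ, hσ, hσι, h2L, hsL, hrL, k, hk, c, hcs, hc1, hkc, y, hy, hky, hyr, hy1, hyc⟩ :=
    split_parts hF2 hrp hs5 (by rcases hr with rfl | rfl <;> omega) hx
  have hsL' : s ∣ Nat.card L - 1 := by rwa [Nat.card_eq_fintype_card]
  obtain ⟨v, hv, hone, heq, hve⟩ := exists_vec stdF4.good unimodular_F4 hsL' hcs hc1
  have key : ∀ w, Letters chevF4 w →
      (∀ t < chevF4.nroots, chi chevF4 auxF4 c (wf auxF4 w t) = chi chevF4 auxF4 c t ^ Fintype.card F) →
      ∃ S, (∀ b ∈ units4, app (mat w) (cprod S) b = (0, 0, 0, 0)) ∧ (S = [8] ∨ S = [12]) ∧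
        ∀ t < chevF4.nroots, lin chevF4 auxF4 t v ≠ 0 := by
    intro w hw hrel
    obtain ⟨S, hS, hann, hspan⟩ := exists_ann hw
    have hev := hve w hw _ hrel
    obtain ⟨j, hj, hj0⟩ := ann_root hann hev hv
    have hj' := order_of_root h23.1 h23.2 (annList_sub S hS j hj) hj0
    rw [hj'] at he
    have hS8 : 8 ∈ S ∨ 12 ∈ S := by rcases he with rfl | rfl; exacts [Or.inl hj, Or.inr hj]
    refine ⟨S, hann, hS8.imp (annList_big S hS).1 (annList_big S hS).2, fun t ht => ?_⟩
    exact no_root_killed h23.1 (hspan hS8) hev hv ht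
  obtain ⟨w, hw, hrel⟩ := exists_rel stdF4 hσ hσι hk
  obtain ⟨-, -, -, hno⟩ := key w hw (hrel _ c hkc)
  obtain ⟨k2, hk2, hk2c, d, hd⟩ := toral_step stdF4 c (p := r)
    (Or.inr fun t ht e => hno t ht ((hone t ht).1 e)) (St_small h23.1 h23.2 heq hno hr) hy hyr hyc
  have hdr : d ^ r = 1 := tor_eq_iff stdF4.good unimodular_F4 (by
    rw [map_pow, map_one, ← hd, conj_pow, hyr]; simp)
  have hd1 : d ≠ 1 := fun e => by
    rw [e, map_one, mul_inv_eq_one] at hd
    exact hy1 (mul_left_cancel (hd.trans (mul_one k2).symm))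
  rcases hr with rfl | rfl
  · refine hd1 (funext fun i => Units.ext ?_)
    have h1 : (d i : L) ^ 2 = 1 := by
      rw [← Units.val_pow_eq_pow_val, show d i ^ 2 = 1 from congrFun hdr i, Units.val_one]
    have h2 : ((d i : L) - 1) ^ 2 = 0 := by linear_combination h1 - ((d i : L) - 1) * h2L
    exact sub_eq_zero.1 (eq_zero_of_pow_eq_zero h2)
  · obtain ⟨w', hw', hrel'⟩ := exists_rel stdF4 hσ hσι (mul_mem hk2 hk)
    have hrd := hrel' (x ^ s : ↥(chevF4.group F)).1 d (by
      rw [_root_.mul_inv_rev, show ∀ a : GL chevF4.Idx L, k2 * k * a * (k⁻¹ * k2⁻¹) =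
        k2 * (k * a * k⁻¹) * k2⁻¹ from fun a => by group, hky, hd])
    have hrc := hrel' (x ^ 3 : ↥(chevF4.group F)).1 c (by
      rw [_root_.mul_inv_rev, show ∀ a : GL chevF4.Idx L, k2 * k * a * (k⁻¹ * k2⁻¹) =
        k2 * (k * a * k⁻¹) * k2⁻¹ from fun a => by group, hkc, hk2c, mul_inv_cancel_right])
    obtain ⟨S, hann, hS, -⟩ := key w' hw' hrc
    have hrL' : 3 ∣ Nat.card L - 1 := by rw [Nat.card_eq_fintype_card]; exact hrL (by norm_num)
    obtain ⟨v', hv', -, -, hve'⟩ := exists_vec stdF4.good unimodular_F4 hrL' hdr hd1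
    obtain ⟨i, hi, hi0⟩ := ann_root hann (hve' w' hw' _ hrd) hv'
    have hn := not_root_mod_three (Fintype.card F : ZMod 3)
    rcases hS with rfl | rfl <;> simp only [List.mem_singleton] at hi <;> subst hi
    · exact hn.1 hi0
    · exact hn.2 hi0

end CfsgLib.Chev.F4Prime
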