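/-
Elements of order `r * s` in twisted tori of `F₄(2ⁿ)`.
-/
import Cfsg.Agent.Lib.Chev.F4Prime.Bridge
import Cfsg.Agent.Lib.Chev.F4Prime.Arith
import Cfsg.Agent.Lib.Chev.SylowTori.Torus
import Cfsg.Agent.Lib.Chev.Tori.F4

set_option autoImplicit false
set_option maxRecDepth 100000

namespace CfsgLib.Chev.F4Prime

open Cfsg.Lie Matrix CfsgLib.Chev CfsgLib.Chev.Lang CfsgLib.Chev.SylowTori
open CfsgLib.KnownB.ChevField (map_xG)

universe u

/-- in characteristic two the Weyl representatives permute the root elements -/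
theorem nW_xG_two {D : ChevalleyDatum} {A : Aux} {K : Type u} [Field K] (g : Good D A)
    (h2 : (2 : K) = 0) : ∀ {w : List ℕ}, Letters D w → ∀ {r : ℕ}, r < D.nroots → ∀ t : K,
      nW K g w * xG g r t * (nW K g w)⁻¹ = xG g (wf A w r) t
  | [], _, r, _, t => by simp [nW, wf]
  | i :: w, h, r, hr, t => by
    have e : nW K g (i :: w) = nS K g i * nW K g w := by simp [nW]
    rw [e, show nS K g i * nW K g w * xG g r t * (nS K g i * nW K g w)⁻¹ =
      nS K g i * (nW K g w * xG g r t * (nW K g w)⁻¹) * (nS K g i)⁻¹ by group,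
      nW_xG_two g h2 h.tail hr t, nS_conj_xG g h.head (wf_lt g h.tail hr)]
    have h1 : ((A.eta i (wf A w r) : ℤ) : K) = 1 := by
      rcases g.eta_sign i h.head _ (wf_lt g h.tail hr) with e | e <;> rw [e]
      · simp
      · push_cast; linear_combination -h2
    rw [h1, one_mul]
    rfl

theorem det_dvd_of_smith {D : ChevalleyDatum} {A : Aux}
    {U Ui V Vi : Matrix (Fin D.rank) (Fin D.rank) ℤ} {dd : Fin D.rank → ℕ}
    (hs : smithCheck D A U Ui V Vi dd = true) : (cartanM D A).det.natAbs ∣ ∏ i, dd i := by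
  simp only [smithCheck, List.all_eq_true, List.mem_finRange, forall_const, Bool.and_eq_true,
    decide_eq_true_eq] at hs
  have h1 : U * cartanM D A * V = Matrix.diagonal fun i => (dd i : ℤ) := Matrix.ext fun i k => by
    rw [(hs i k).1.1, Matrix.diagonal_apply]
  have h2 := congrArg (fun M => (Matrix.det M).natAbs) h1
  simp only [Matrix.det_mul, Matrix.det_diagonal, Int.natAbs_mul] at h2
  rw [← Nat.cast_prod, Int.natAbs_natCast] at h2
  rw [← h2]
  exact dvd_mul_of_dvd_left (dvd_mul_left _ _) _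

theorem det_F4_natAbs : (cartanM chevF4 auxF4).det.natAbs = 1 :=
  Nat.dvd_one.1 ((det_dvd_of_smith smithF4).trans
    (show (∏ i : Fin 4, (![1, 1, 1, 1] : Fin 4 → ℕ) i) ∣ 1 by decide))

theorem cube_three : ∀ y : ZMod 3, y ^ 3 = 1 → y = 1 := by decide

variable {F : Type u} [Field F] [Fintype F]

/-- an eigenvector is realised by a rational element -/
theorem realise (hF2 : ∃ n, Fintype.card F = 2 ^ n) {m : ℕ} [NeZero m] (hm : Odd m)
    {w : List ℕ} (hw : Letters chevF4 w) {v : Fin chevF4.rank → ZMod m}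
    (hv : v ∈ eigen (ZMod m) chevF4 auxF4 w (Fintype.card F : ZMod m)) :
    (∃ x : ↥(chevF4.group F), orderOf x = addOrderOf v) ∧
      ∀ ρ < chevF4.nroots, wf auxF4 w ρ = ρ → lin chevF4 auxF4 ρ v = 0 → Odd (addOrderOf v) →
        ∃ x : ↥(chevF4.group F), orderOf x = 2 * addOrderOf v := by
  classical
  have h := stdF4
  have g := h.good
  have hdet : (cartanM chevF4 auxF4).det ≠ 0 := Tori.det_F4
  obtain ⟨K, _, _, ι, σ, hσ, G, hG, hmG⟩ :=
    lang h hdet (monomialSubgroup_le_group g (nW_mem (F := F) g hw))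
  rw [map_nW] at hmG
  obtain ⟨p, hp⟩ := CharP.exists F
  have := Fact.mk (CharP.char_is_prime F p)
  have : CharP K p := charP_of_injective_ringHom ι.injective p
  obtain ⟨n, hn⟩ := hF2
  have h2F : (2 : F) = 0 := by
    have h : ((2 ^ n : ℕ) : F) = 0 := by rw [← hn]; exact FiniteField.cast_card_eq_zero F
    rw [Nat.cast_pow, Nat.cast_ofNat] at h
    exact eq_zero_of_pow_eq_zero h
  have h2K : (2 : K) = 0 := by rw [← map_ofNat ι 2, h2F, map_zero]
  obtain ⟨f, -, hf⟩ := FiniteField.card F p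
  have hσp : σ = iterateFrobenius K p f := RingHom.ext fun x => by
    rw [hσ, iterateFrobenius_def]; exact congrArg _ hf
  let σe : K ≃+* K := RingEquiv.ofBijective σ (hσp ▸ bijective_iterateFrobenius K p f)
  have hι : ∀ x, σe x = x ↔ ∃ y, ι y = x := by
    intro x
    show σ x = x ↔ _
    rw [hσ]
    constructor
    · intro hx
      by_contra hne
      push Not at hne
      let P : Polynomial K := Polynomial.X ^ Fintype.card F - Polynomial.X
      have hP : P ≠ 0 := FiniteField.X_pow_card_sub_X_ne_zero K Fintype.one_lt_card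
      have h1 : insert x (Finset.univ.image ι) ⊆ P.roots.toFinset := by
        intro y hy
        rw [Multiset.mem_toFinset, Polynomial.mem_roots hP, Polynomial.IsRoot, Polynomial.eval_sub,
          Polynomial.eval_pow, Polynomial.eval_X, sub_eq_zero]
        rcases Finset.mem_insert.1 hy with rfl | hy
        · exact hx
        · obtain ⟨t, -, rfl⟩ := Finset.mem_image.1 hy
          rw [← map_pow, FiniteField.pow_card]
      have h2 := (Finset.card_le_card h1).trans
        ((Multiset.toFinset_card_le _).trans (Polynomial.card_roots' P))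
      rw [Finset.card_insert_of_notMem (by simpa using hne),
        Finset.card_image_of_injective _ ι.injective, Finset.card_univ,
        FiniteField.X_pow_card_sub_X_natDegree_eq K Fintype.one_lt_card] at h2
      omega
    · rintro ⟨y, rfl⟩
      rw [← map_pow, FiniteField.pow_card]
  have hmK : (m : K) ≠ 0 := by
    obtain ⟨j, hj⟩ := hm
    rw [hj]
    push_cast
    rw [h2K, zero_mul, zero_add]
    exact one_ne_zero
  have : NeZero (m : K) := ⟨hmK⟩
  obtain ⟨ζ₀, hζ₀⟩ := HasEnoughRootsOfUnity.exists_primitiveRoot K m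
  let ζ : Kˣ := (hζ₀.isUnit (NeZero.ne m)).unit
  have hζ : IsPrimitiveRoot ζ m := IsPrimitiveRoot.coe_units_iff.1 hζ₀
  set a : Fin chevF4.rank → Kˣ := fun i => zp ζ (v i)
  have hfix : Matrix.GeneralLinearGroup.map σ (G * dgn chevF4 auxF4 a * G⁻¹) =
      G * dgn chevF4 auxF4 a * G⁻¹ := by
    obtain ⟨b, hb⟩ :=
      Tori.conj_dgn g hdet (nW_mem (F := K) g hw) fun i => Units.map (σ : K →* K) (a i)
    rw [map_mul, map_mul, map_inv, hmG, map_dgn,
      show G * nW K g w * dgn chevF4 auxF4 (fun i => Units.map (σ : K →* K) (a i)) * (G * nW K g w)⁻¹ =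
        G * (nW K g w * dgn chevF4 auxF4 (fun i => Units.map (σ : K →* K) (a i)) * (nW K g w)⁻¹) * G⁻¹
        by group,
      hb]
    congr 3
    funext i
    have hs := g.simple_lt i i.isLt
    have hs' := wf_lt g hw.reverse hs
    have h1 := Tori.conj_dgn_wt h (nW_acts g hw) hb hs'
    rw [wf_rev_right g hw hs, wt_simple g _ i.isLt, Lang.ext, dif_pos i.isLt] at h1
    rw [h1, show wt chevF4 auxF4 (Lang.ext fun i => Units.map (σ : K →* K) (a i))
          (wf auxF4 w.reverse (chevF4.simple i)) =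
        wt chevF4 auxF4 (Lang.ext a) (wf auxF4 w.reverse (chevF4.simple i)) ^ Fintype.card F by
      rw [wt, wt, ← Finset.prod_pow]
      refine Finset.prod_congr rfl fun j hj => ?_
      rw [Lang.ext, Lang.ext, dif_pos (Finset.mem_range.1 hj), dif_pos (Finset.mem_range.1 hj),
        ← map_zpow]
      exact Units.ext (hσ _), wt_zp hζ, ← zp_nat hζ]
    show zp ζ _ = zp ζ (v i)
    congr 1
    have h2 := lin_wf g hw hs' v
    rw [wf_rev_right g hw hs, mem_eigen.1 hv, map_smul, smul_eq_mul, lin_simple g] at h2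
    exact h2.symm
  let E : Multiplicative (Fin chevF4.rank → ZMod m) →* (Fin chevF4.rank → Kˣ) := MonoidHom.mk'
    (fun x i => zp ζ ((Multiplicative.toAdd x) i)) fun x y => funext fun i => zp_add hζ _ _
  have hE : Function.Injective E := fun x y e =>
    Multiplicative.toAdd.injective (funext fun i => zp_inj hζ (congrFun e i))
  have hord : orderOf (dgn chevF4 auxF4 a : GL chevF4.Idx K) = addOrderOf v := by
    rw [orderOf_injective _ (dgn_inj g), ← orderOf_ofAdd_eq_addOrderOf, ← orderOf_injective E hE]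
    rfl
  have hinjι : Function.Injective (Matrix.GeneralLinearGroup.map (n := chevF4.Idx) ι) :=
    fun x y e => Units.ext (Matrix.map_injective ι.injective (congrArg Units.val e))
  have hdes : ∀ {y : GL chevF4.Idx K}, y ∈ chevF4.group K →
      Matrix.GeneralLinearGroup.map σ (G * y * G⁻¹) = G * y * G⁻¹ →
      ∃ x : ↥(chevF4.group F), orderOf x = orderOf y := by
    intro y hy hyfix
    obtain ⟨u, hu, hue⟩ := Tori.fixed_mem_Gad h hι (mul_mem (mul_mem hG hy) (inv_mem hG)) hyfix
    obtain ⟨x, hx, b, rfl⟩ := hu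
    have hb : (dgn chevF4 auxF4 b : GL chevF4.Idx F) ∈ chevF4.group F := by
      refine diagonalSubgroup_le_group g ?_
      rw [diagonalSubgroup_eq g]
      have hc : mHom F (cartanM chevF4 auxF4) (mHom F (cartanM chevF4 auxF4).adjugate b) =
          fun k => b k ^ (cartanM chevF4 auxF4).det := by
        rw [mHom_mul, Matrix.adjugate_mul]
        funext k
        rw [mHom_apply, Finset.prod_eq_single k]
        · simp
        · intro i _ hik; simp [Matrix.one_apply_ne hik]
        · simp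
      rcases Int.natAbs_eq (cartanM chevF4 auxF4).det with e | e <;>
        rw [det_F4_natAbs, Nat.cast_one] at e
      · refine ⟨mHom F (cartanM chevF4 auxF4).adjugate b, ?_⟩
        simp only [e, zpow_one] at hc
        rw [tor_eq_dgn g]
        exact congrArg _ hc
      · refine ⟨(mHom F (cartanM chevF4 auxF4).adjugate b)⁻¹, ?_⟩
        simp only [e, _root_.zpow_neg, zpow_one] at hc
        rw [map_inv, tor_eq_dgn g,
          show (fun i : Fin chevF4.rank => chi chevF4 auxF4 (mHom F (cartanM chevF4 auxF4).adjugate b) (chevF4.simple i)) =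
            b⁻¹ from hc, map_inv, inv_inv]
    refine ⟨⟨_, mul_mem hx hb⟩, ?_⟩
    rw [← Subgroup.orderOf_coe, ← orderOf_injective _ hinjι]
    show orderOf (Matrix.GeneralLinearGroup.map ι (x * dgn chevF4 auxF4 b)) = _
    rw [hue]
    exact (MulAut.conj G).orderOf_eq y
  refine ⟨?_, fun ρ hρ hρw hρ0 hodd => ?_⟩
  · obtain ⟨x, hx⟩ := hdes (dgn_mem_group g hdet a) hfix
    exact ⟨x, hx.trans hord⟩
  · have hz : Matrix.GeneralLinearGroup.map σ (G * xG g ρ (1 : K) * G⁻¹) = G * xG g ρ (1 : K) * G⁻¹ := by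
      rw [map_mul, map_mul, map_inv, hmG, map_xG, map_one,
        show G * nW K g w * xG g ρ (1 : K) * (G * nW K g w)⁻¹ =
          G * (nW K g w * xG g ρ 1 * (nW K g w)⁻¹) * G⁻¹ by group,
        nW_xG_two g h2K hw hρ, hρw]
    have hcomm : Commute (dgn chevF4 auxF4 a : GL chevF4.Idx K) (xG g ρ 1) := by
      have := dgn_conj_xG g a hρ (1 : K)
      rw [show wt chevF4 auxF4 (Lang.ext a) ρ = zp ζ (lin chevF4 auxF4 ρ v) from wt_zp hζ v ρ, hρ0,
        show zp ζ (0 : ZMod m) = 1 by simpa using zp_cast hζ (0 : ℤ), Units.val_one, one_mul,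
        mul_inv_eq_iff_eq_mul] at this
      exact this
    have h2 : orderOf (xG g ρ (1 : K)) = 2 := by
      refine orderOf_eq_prime ?_ ?_
      · rw [sq, xG_add, one_add_one_eq_two, h2K, xG_zero]
      · exact fun e => one_ne_zero (xG_eq_one h hρ e)
    obtain ⟨x, hx⟩ := hdes (y := xG g ρ 1 * dgn chevF4 auxF4 a)
      (mul_mem (xG_mem_group g ρ 1) (dgn_mem_group g hdet a)) (by
        rw [show G * (xG g ρ (1 : K) * dgn chevF4 auxF4 a) * G⁻¹ =
          (G * xG g ρ 1 * G⁻¹) * (G * dgn chevF4 auxF4 a * G⁻¹) by group, map_mul, hz, hfix])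
    refine ⟨x, hx.trans ?_⟩
    rw [hcomm.symm.orderOf_mul_eq_mul_orderOf_of_coprime (by
      rw [h2, hord]; exact Nat.coprime_two_left.2 hodd), h2, hord]

/-! ### the witnesses -/

variable {R : Type*} [CommRing R]

/-- the vector of a witness -/
def Wit.val (W : Wit) (x : R) : Fin chevF4.rank → R := fun i => ev (W.vec.getD i []) x

theorem ev_plin (V : List (List ℤ)) (x : R) (b : Z4) :
    ev (plin V b) x = phi (R := R) (fun i => ev (V.getD i []) x) b := by
  obtain ⟨a, b, c, d⟩ := b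
  simp only [plin, ev_padd, ev_psc, phi]
  show _ = (a : R) * ev (V.getD 0 []) x + (b : R) * ev (V.getD 1 []) x + (c : R) * ev (V.getD 2 []) x +
    (d : R) * ev (V.getD 3 []) x
  ring

theorem cast_ev : ∀ (p : List ℤ) (x : ℤ), ((ev p x : ℤ) : R) = ev p (x : R)
  | [], x => by simp [ev]
  | c :: p, x => by simp [ev, cast_ev p x]

theorem wit_eigen {W : Wit} {w : List ℕ} (h : W.ok w = true) {x a : R} (ha : a * ev (cyc W.k) x = 0) :
    a • W.val x ∈ eigen R chevF4 auxF4 w x := by
  simp only [Wit.ok, Bool.and_eq_true] at h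
  obtain ⟨⟨⟨⟨h0, h1⟩, h2⟩, h3⟩, -⟩ := h
  have key : ∀ (b : Z4) (i : ℕ), eqRow W b i = true →
      a * phi (R := R) (fun j => ev (W.vec.getD j []) x) b = x * (a * ev (W.vec.getD i []) x) := by
    intro b i hb
    have := ev_pzero hb x
    simp only [ev_padd, ev_psc, ev_pmul, ev, ev_plin] at this
    push_cast at this
    linear_combination a * this + ev (W.quo.getD i []) x * ha
  rw [mem_eigen, map_smul]
  funext i
  simp only [Pi.smul_apply, smul_eq_mul, Phi, LinearMap.pi_apply, lin_row]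
  obtain ⟨i, hi⟩ := i
  have : i = 0 ∨ i = 1 ∨ i = 2 ∨ i = 3 := by
    have : i < 4 := hi
    omega
  rcases this with rfl | rfl | rfl | rfl
  · exact key _ 0 h0
  · exact key _ 1 h1
  · exact key _ 2 h2
  · exact key _ 3 h3

theorem wit_entry {W : Wit} {w : List ℕ} (h : W.ok w = true) (x : R) :
    ∃ i : Fin chevF4.rank, W.val x i = (W.cst : R) := by
  simp only [Wit.ok, Bool.and_eq_true, decide_eq_true_eq] at h
  refine ⟨⟨W.idx, h.2.1⟩, ?_⟩
  show ev (W.vec.getD W.idx []) x = _
  rw [h.2.2.1]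
  simp [ev]

theorem wit_cst {W : Wit} {w : List ℕ} (h : W.ok w = true) {r : ℕ} [Fact r.Prime] (hr2 : r ≠ 2)
    {q : ℕ} (hk : orderOf (q : ZMod r) = W.k) : ¬ (r : ℤ) ∣ W.cst := by
  simp only [Wit.ok, Bool.and_eq_true, decide_eq_true_eq, List.mem_cons, List.not_mem_nil,
    or_false] at h
  have hrp := (Fact.out : r.Prime)
  rintro hd
  rcases h.2.2.2 with (e | e) | ⟨e, e3⟩ <;> rw [e] at hd
  · exact hrp.ne_one (Nat.dvd_one.1 (Int.natCast_dvd.1 hd))
  · exact hr2 ((Nat.prime_dvd_prime_iff_eq hrp Nat.prime_two).1 (Int.natCast_dvd.1 hd))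
  · obtain rfl := (Nat.prime_dvd_prime_iff_eq hrp Nat.prime_three).1 (Int.natCast_dvd.1 hd)
    rw [e3] at hk
    have : ∀ y : ZMod 3, orderOf y ≠ 3 := by
      intro y hy
      have h1 := pow_orderOf_eq_one y
      rw [hy] at h1
      have h3 : y = 1 := cube_three y h1
      rw [h3, orderOf_one] at hy
      omega
    exact this _ hk

theorem cyc_dvd {r : ℕ} [Fact r.Prime] {q k : ℕ} (hk : k ∈ [1, 2, 3, 4, 6, 8, 12])
    (h : orderOf (q : ZMod r) = k) : (r : ℤ) ∣ ev (cyc k) (q : ℤ) := by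
  rw [← ZMod.intCast_zmod_eq_zero_iff_dvd, cast_ev, Int.cast_natCast]
  exact root_of_order hk h

/-- two odd primes with a common twisted torus -/
theorem exists_pair (hF2 : ∃ n, Fintype.card F = 2 ^ n) {r s : ℕ} [Fact r.Prime] [Fact s.Prime]
    (hr2 : r ≠ 2) (hs2 : s ≠ 2) (hne : r ≠ s) {d : List ℕ × Wit × Wit} (hd : d ∈ pairData)
    (hk : d.2.1.k ∈ [1, 2, 3, 4, 6, 8, 12]) (hl : d.2.2.k ∈ [1, 2, 3, 4, 6, 8, 12])
    (her : orderOf (Fintype.card F : ZMod r) = d.2.1.k)
    (hes : orderOf (Fintype.card F : ZMod s) = d.2.2.k) :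
    ∃ x : ↥(chevF4.group F), orderOf x = r * s := by
  have hrp := (Fact.out : r.Prime)
  have hsp := (Fact.out : s.Prime)
  have hc := (List.all_eq_true.1 pair_chk) d hd
  simp only [Bool.and_eq_true, decide_eq_true_eq] at hc
  obtain ⟨⟨hw, h1⟩, h2⟩ := hc
  set q := Fintype.card F
  have : NeZero (r * s) := ⟨Nat.mul_ne_zero hrp.ne_zero hsp.ne_zero⟩
  have hodd : Odd (r * s) := (hrp.odd_of_ne_two hr2).mul (hsp.odd_of_ne_two hs2)
  have hz : ∀ z : ℤ, ((r * s : ℕ) : ℤ) ∣ z → (z : (ZMod (r * s))) = 0 := fun z h =>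
    (ZMod.intCast_zmod_eq_zero_iff_dvd z (r * s)).2 h
  have hs0 : (s : (ZMod (r * s))) * ev (cyc d.2.1.k) (q : (ZMod (r * s))) = 0 := by
    have h := hz ((s : ℤ) * ev (cyc d.2.1.k) (q : ℤ)) (by
      push_cast; rw [mul_comm (r : ℤ)]; exact mul_dvd_mul_left _ (cyc_dvd hk her))
    push_cast [cast_ev] at h
    exact h
  have hr0 : (r : (ZMod (r * s))) * ev (cyc d.2.2.k) (q : (ZMod (r * s))) = 0 := by
    have h := hz ((r : ℤ) * ev (cyc d.2.2.k) (q : ℤ)) (by
      push_cast; exact mul_dvd_mul_left _ (cyc_dvd hl hes))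
    push_cast [cast_ev] at h
    exact h
  set v := (s : (ZMod (r * s))) • d.2.1.val (q : (ZMod (r * s))) + (r : (ZMod (r * s))) • d.2.2.val (q : (ZMod (r * s))) with hvdef
  obtain ⟨⟨x, hx⟩, -⟩ := realise hF2 hodd hw (v := v)
    (add_mem (wit_eigen h1 hs0) (wit_eigen h2 hr0))
  refine ⟨x, hx.trans ?_⟩
  have hrs : (r : (ZMod (r * s))) * (s : (ZMod (r * s))) = 0 := by rw [← Nat.cast_mul]; exact ZMod.natCast_self _
  have hno : ∀ (a b : ℕ) (W V : Wit), W.ok d.1 = true → a ≠ 2 → Fact a.Prime → Nat.Coprime a b →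
      a * b = r * s → orderOf (q : ZMod a) = W.k → (b : (ZMod (r * s))) • v = 0 →
      v = (b : (ZMod (r * s))) • W.val (q : (ZMod (r * s))) + (a : (ZMod (r * s))) • V.val (q : (ZMod (r * s))) → False := by
    intro a b W V hW ha2 ha hab habrs hord h0 hv
    have hap := ha.out
    obtain ⟨i, hi⟩ := wit_entry hW (q : (ZMod (r * s)))
    have hab0 : (a : (ZMod (r * s))) * (b : (ZMod (r * s))) = 0 := by rw [← Nat.cast_mul, habrs]; exact ZMod.natCast_self _
    have h : (((b : ℤ) * b * W.cst : ℤ) : (ZMod (r * s))) = 0 := by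
      have := congrFun h0 i
      rw [hv] at this
      simp only [Pi.smul_apply, Pi.add_apply, smul_eq_mul, Pi.zero_apply, hi] at this
      push_cast
      linear_combination this - (V.val (q : (ZMod (r * s))) i) * hab0
    rw [ZMod.intCast_zmod_eq_zero_iff_dvd, ← habrs] at h
    push_cast at h
    have h3 : (a : ℤ) ∣ (b : ℤ) * b * W.cst := (dvd_mul_right _ _).trans h
    have hco : IsCoprime (a : ℤ) ((b : ℤ) * b) := by
      have := Nat.isCoprime_iff_coprime.2 hab
      exact this.mul_right this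
    exact wit_cst hW ha2 hord (hco.dvd_of_dvd_mul_left h3)
  have hdvd : addOrderOf v ∣ r * s := by
    refine addOrderOf_dvd_of_nsmul_eq_zero ?_
    rw [← Nat.cast_smul_eq_nsmul (ZMod (r * s)), show ((r * s : ℕ) : (ZMod (r * s))) = 0 from ZMod.natCast_self _, zero_smul]
  have hcop : Nat.Coprime r s := (Nat.coprime_primes hrp hsp).2 hne
  have hs_ne : (s : (ZMod (r * s))) • v ≠ 0 := fun h =>
    hno r s d.2.1 d.2.2 h1 hr2 inferInstance hcop rfl her h hvdef
  have hr_ne : (r : (ZMod (r * s))) • v ≠ 0 := fun h =>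
    hno s r d.2.2 d.2.1 h2 hs2 inferInstance hcop.symm (mul_comm s r) hes h
      (by rw [hvdef, add_comm])
  have hrn : ¬ addOrderOf v ∣ r := fun h => hr_ne (by
    rw [Nat.cast_smul_eq_nsmul (ZMod (r * s))]; exact addOrderOf_dvd_iff_nsmul_eq_zero.1 h)
  have hsn : ¬ addOrderOf v ∣ s := fun h => hs_ne (by
    rw [Nat.cast_smul_eq_nsmul (ZMod (r * s))]; exact addOrderOf_dvd_iff_nsmul_eq_zero.1 h)
  obtain ⟨a, b, ha, hb, e⟩ := exists_dvd_and_dvd_of_dvd_mul hdvd
  rcases (Nat.dvd_prime hrp).1 ha with rfl | rfl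
  · exact absurd (by rw [e, one_mul]; exact hb) hsn
  · rcases (Nat.dvd_prime hsp).1 hb with rfl | rfl
    · exact absurd (by rw [e, mul_one]) hrn
    · exact e

/-- two and a prime of small order -/
theorem exists_two (hF2 : ∃ n, Fintype.card F = 2 ^ n) {s : ℕ} [Fact s.Prime] (hs2 : s ≠ 2)
    {d : List ℕ × Wit × ℕ × List ℤ} (hd : d ∈ twoData) (hk : d.2.1.k ∈ [1, 2, 3, 4, 6, 8, 12])
    (hes : orderOf (Fintype.card F : ZMod s) = d.2.1.k) :
    ∃ x : ↥(chevF4.group F), orderOf x = 2 * s := by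
  have hsp := (Fact.out : s.Prime)
  have hc := (List.all_eq_true.1 two_chk) d hd
  simp only [Bool.and_eq_true, decide_eq_true_eq] at hc
  obtain ⟨⟨⟨⟨hw, h1⟩, hρ⟩, hρw⟩, hz⟩ := hc
  set q := Fintype.card F
  have h0 : (1 : ZMod s) * ev (cyc d.2.1.k) (q : ZMod s) = 0 := by
    rw [one_mul]; exact root_of_order hk hes
  have hv : d.2.1.val (q : ZMod s) ∈ eigen (ZMod s) chevF4 auxF4 d.1 (q : ZMod s) := by
    simpa using wit_eigen h1 h0
  have hadd : addOrderOf (d.2.1.val (q : ZMod s)) = s := by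
    refine addOrderOf_eq_prime ?_ fun e => ?_
    · rw [← Nat.cast_smul_eq_nsmul (ZMod s), ZMod.natCast_self, zero_smul]
    · obtain ⟨i, hi⟩ := wit_entry h1 (q : ZMod s)
      rw [e, Pi.zero_apply, eq_comm, ZMod.intCast_zmod_eq_zero_iff_dvd] at hi
      exact wit_cst h1 hs2 hes hi
  obtain ⟨-, h2⟩ := realise hF2 (hsp.odd_of_ne_two hs2) hw hv
  obtain ⟨x, hx⟩ := h2 _ hρ hρw (by
    rw [lin_row]
    show phi (R := ZMod s) (fun i => ev (d.2.1.vec.getD i []) (q : ZMod s)) (row d.2.2.1) = 0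
    have := ev_pzero hz (q : ZMod s)
    simp only [ev_padd, ev_psc, ev_pmul, ev_plin] at this
    push_cast at this
    linear_combination this + ev d.2.2.2 (q : ZMod s) * h0)
    (by rw [hadd]; exact hsp.odd_of_ne_two hs2)
  exact ⟨x, hadd ▸ hx⟩

end CfsgLib.Chev.F4Prime
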