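/-
The prime graph of `F₄(2ⁿ)`.
-/
import Cfsg.Agent.Lib.Chev.F4Prime.Neg
import Cfsg.Agent.Lib.Chev.F4Prime.Pos

set_option autoImplicit false
set_option maxRecDepth 100000

namespace CfsgLib.Chev.F4Prime

open Cfsg.Lie CfsgLib.Chev

universe u

/-- two orders of `q` that do not occur in a common torus -/
def Bad (k l : ℕ) : Prop :=
  (k < l ∧ (l ∈ ({8, 12} : Finset ℕ) ∨ (l = 6 ∧ k ∈ ({3, 4} : Finset ℕ)) ∨ (l = 4 ∧ k = 3))) ∨
    (l < k ∧ (k ∈ ({8, 12} : Finset ℕ) ∨ (k = 6 ∧ l ∈ ({3, 4} : Finset ℕ)) ∨ (k = 4 ∧ l = 3)))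

instance (k l : ℕ) : Decidable (Bad k l) := by unfold Bad; infer_instance

theorem ann_not_bad : ∀ S ∈ annList, ∀ k ∈ S, ∀ l ∈ S, ¬ Bad k l := by decide +kernel

theorem bad_small : ∀ k ∈ [1, 2], ∀ l ∈ [1, 2, 3, 4, 6, 8, 12], Bad k l → l = 8 ∨ l = 12 := by
  decide +kernel

theorem pair_cover : ∀ k ∈ [1, 2, 3, 4, 6, 8, 12], ∀ l ∈ [1, 2, 3, 4, 6, 8, 12], ¬ Bad k l →
    (pairData.any fun d => (d.2.1.k == k && d.2.2.k == l) || (d.2.1.k == l && d.2.2.k == k)) = true := by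
  decide +kernel

theorem two_cover : ∀ l ∈ [1, 2, 3, 4, 6, 8, 12], l ∉ ({8, 12} : Finset ℕ) →
    (twoData.any fun d => d.2.1.k == l) = true := by decide +kernel

theorem two_not_big : ∀ l ∈ [1, 2, 3, 4, 6, 8, 12], (l = 8 ∨ l = 12) → ¬ l ∣ 2 := by decide +kernel

variable {F : Type u} [Field F] [Fintype F]

theorem sq_three : ∀ y : ZMod 3, y ≠ 0 → y ^ 2 = 1 := by decide

theorem order_three {s : ℕ} [Fact s.Prime] (hs : s = 3) {q : ℕ} (hsq : ¬ s ∣ q) :
    orderOf (q : ZMod s) ∈ [1, 2] := by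
  subst hs
  have h : (q : ZMod 3) ^ 2 = 1 := by
    have h0 : (q : ZMod 3) ≠ 0 := fun e => hsq ((ZMod.natCast_eq_zero_iff q 3).1 e)
    exact sq_three _ h0
  rcases (Nat.dvd_prime Nat.prime_two).1 (orderOf_dvd_of_pow_eq_one h) with e | e <;> simp [e]

omit [Field F] in
theorem not_dvd_card (hF2 : ∃ n, Fintype.card F = 2 ^ n) {s : ℕ} (hs : s.Prime) (h2 : s ≠ 2) :
    ¬ s ∣ Fintype.card F := by
  obtain ⟨n, hn⟩ := hF2
  rw [hn]
  exact fun h => h2 ((Nat.prime_dvd_prime_iff_eq hs Nat.prime_two).1 (hs.dvd_of_dvd_pow h))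

/-- two and an odd prime -/
theorem adj_two (hF2 : ∃ n, Fintype.card F = 2 ^ n) {s : ℕ} (hs : s.Prime) (hs2 : s ≠ 2)
    (hsG : s ∣ Nat.card ↥(chevF4.group F)) :
    (¬ ∃ x : ↥(chevF4.group F), orderOf x = 2 * s) ↔
      orderOf (Fintype.card F : ZMod s) ∈ ({8, 12} : Finset ℕ) := by
  have : Fact s.Prime := ⟨hs⟩
  have hsq := not_dvd_card hF2 hs hs2
  have hl := order_mem rfl hsq hsG
  constructor
  · intro hno
    by_contra h
    have hd := two_cover _ hl h
    rw [List.any_eq_true] at hd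
    obtain ⟨d, hd, he⟩ := hd
    have he' : d.2.1.k = orderOf (Fintype.card F : ZMod s) := beq_iff_eq.1 he
    exact hno (exists_two hF2 hs2 hd (he' ▸ hl) he'.symm)
  · rintro h ⟨x, hx⟩
    simp only [Finset.mem_insert, Finset.mem_singleton] at h
    have h5 : 5 ≤ s := by
      by_contra h5
      have h3 : s = 3 := by
        have := hs.two_le
        rcases (show s = 3 ∨ s = 4 by omega) with e | e
        · exact e
        · subst e; norm_num at hs
      rcases List.mem_cons.1 (order_three h3 hsq) with e | e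
      · omega
      · rw [List.mem_singleton] at e; omega
    exact no_small hF2 (Or.inl rfl) h5 h hx

/-- two odd primes -/
theorem adj_odd (hF2 : ∃ n, Fintype.card F = 2 ^ n) {r s : ℕ} (hr : r.Prime) (hs : s.Prime)
    (hr2 : r ≠ 2) (hs2 : s ≠ 2) (hne : r ≠ s) (hrG : r ∣ Nat.card ↥(chevF4.group F))
    (hsG : s ∣ Nat.card ↥(chevF4.group F)) :
    (¬ ∃ x : ↥(chevF4.group F), orderOf x = r * s) ↔
      Bad (orderOf (Fintype.card F : ZMod r)) (orderOf (Fintype.card F : ZMod s)) := by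
  have : Fact r.Prime := ⟨hr⟩
  have : Fact s.Prime := ⟨hs⟩
  have hk := order_mem rfl (not_dvd_card hF2 hr hr2) hrG
  have hl := order_mem rfl (not_dvd_card hF2 hs hs2) hsG
  constructor
  · intro hno
    by_contra h
    have hd := pair_cover _ hk _ hl h
    simp only [List.any_eq_true, Bool.or_eq_true, Bool.and_eq_true, beq_iff_eq] at hd
    obtain ⟨d, hd, ⟨e1, e2⟩ | ⟨e1, e2⟩⟩ := hd
    · exact hno (exists_pair hF2 hr2 hs2 hne hd (e1 ▸ hk) (e2 ▸ hl) e1.symm e2.symm)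
    · rw [mul_comm] at hno
      exact hno (exists_pair hF2 hs2 hr2 hne.symm hd (e1 ▸ hl) (e2 ▸ hk) e1.symm e2.symm)
  · rintro h ⟨x, hx⟩
    have big : ∀ {a b : ℕ}, a.Prime → b.Prime → a = 3 → b ≠ 2 → a ≠ b → orderOf x = a * b →
        Bad (orderOf (Fintype.card F : ZMod a)) (orderOf (Fintype.card F : ZMod b)) →
        b ∣ Nat.card ↥(chevF4.group F) → False := by
      intro a b ha hb ha3 hb2 hab hx h hbG
      have : Fact a.Prime := ⟨ha⟩
      have : Fact b.Prime := ⟨hb⟩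
      have hk := order_three ha3 (not_dvd_card hF2 ha (by omega))
      have hl := order_mem rfl (not_dvd_card hF2 hb hb2) hbG
      have h5 : 5 ≤ b := by
        by_contra h5
        have := hb.two_le
        rcases (show b = 3 ∨ b = 4 by omega) with e | e
        · omega
        · subst e; norm_num at hb
      exact no_small hF2 (Or.inr ha3) h5 (bad_small _ hk _ hl h) hx
    by_cases hr3 : r = 3
    · exact big hr hs hr3 hs2 hne hx h hsG
    by_cases hs3 : s = 3
    · exact big hs hr hs3 hr2 hne.symm (by rw [hx, mul_comm]) (by unfold Bad at h ⊢; tauto) hrG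
    have h5 : ∀ p : ℕ, p.Prime → p ≠ 2 → p ≠ 3 → 5 ≤ p := fun p hp h2 h3 => by
      by_contra h5
      have := hp.two_le
      have : p = 4 := by omega
      subst this
      norm_num at hp
    obtain ⟨S, hS, h1, h2⟩ := pair_spec hF2 (h5 r hr hr2 hr3) (h5 s hs hs2 hs3) hne hx
    exact ann_not_bad S hS _ h1 _ h2 h

end CfsgLib.Chev.F4Prime
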